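import Cfsg.Prelude.Def_Classical

/-!
The centralizer of a long root element in `Sp₄`: the matrices `emb t v A`, where `A ∈ SL₂` acts on a
hyperbolic pair and `(t, v)` runs over the Heisenberg radical.
-/

set_option linter.all false
set_option autoImplicit false

namespace Cfsg.Agent.Recognition.HeisSL23

open Matrix

variable {F : Type*} [Field F]

/-- The element with unipotent part `(t, v)` and Levi part `A`. -/
def emb (t v₀ v₁ : F) (A : Matrix (Fin 2) (Fin 2) F) : Matrix (Fin 2 ⊕ Fin 2) (Fin 2 ⊕ Fin 2) F :=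
  fromBlocks !![1, v₀ * A 1 0 - v₁ * A 0 0; 0, A 0 0] !![t, v₀ * A 1 1 - v₁ * A 0 1; v₀, A 0 1]
    !![0, 0; 0, A 1 0] !![1, 0; v₁, A 1 1]

theorem emb_mul (t v₀ v₁ s w₀ w₁ : F) (A B : Matrix (Fin 2) (Fin 2) F)
    (hA : A 0 0 * A 1 1 - A 0 1 * A 1 0 = 1) :
    emb t v₀ v₁ A * emb s w₀ w₁ B =
      emb (t + s + (v₀ * (A 1 0 * w₀ + A 1 1 * w₁) - v₁ * (A 0 0 * w₀ + A 0 1 * w₁)))
        (v₀ + (A 0 0 * w₀ + A 0 1 * w₁)) (v₁ + (A 1 0 * w₀ + A 1 1 * w₁)) (A * B) := by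
  ext (i | i) (j | j) <;> fin_cases i <;> fin_cases j <;>
    simp [emb, Matrix.mul_apply, Fintype.sum_sum_type, Fin.sum_univ_two, fromBlocks] <;> grind

theorem emb_mem (t v₀ v₁ : F) (A : Matrix (Fin 2) (Fin 2) F)
    (hA : A 0 0 * A 1 1 - A 0 1 * A 1 0 = 1) :
    emb t v₀ v₁ A ∈ Matrix.symplecticGroup (Fin 2) F := by
  rw [SymplecticGroup.mem_iff]
  ext (i | i) (j | j) <;> fin_cases i <;> fin_cases j <;>
    simp [emb, Matrix.J, Matrix.mul_apply, Matrix.transpose_apply, Fintype.sum_sum_type,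
      Fin.sum_univ_two, fromBlocks, Matrix.one_apply] <;> grind

theorem emb_one : emb (0 : F) 0 0 1 = 1 := by
  ext (i | i) (j | j) <;> fin_cases i <;> fin_cases j <;> simp [emb, fromBlocks, Matrix.one_apply]

theorem emb_inj {t v₀ v₁ s w₀ w₁ : F} {A B : Matrix (Fin 2) (Fin 2) F}
    (h : emb t v₀ v₁ A = emb s w₀ w₁ B) : t = s ∧ v₀ = w₀ ∧ v₁ = w₁ ∧ A = B := by
  refine ⟨?_, ?_, ?_, ?_⟩
  · simpa [emb, fromBlocks] using congrFun (congrFun h (.inl 0)) (.inr 0)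
  · simpa [emb, fromBlocks] using congrFun (congrFun h (.inl 1)) (.inr 0)
  · simpa [emb, fromBlocks] using congrFun (congrFun h (.inr 1)) (.inr 0)
  · ext i j
    fin_cases i <;> fin_cases j
    · simpa [emb, fromBlocks] using congrFun (congrFun h (.inl 1)) (.inl 1)
    · simpa [emb, fromBlocks] using congrFun (congrFun h (.inl 1)) (.inr 1)
    · simpa [emb, fromBlocks] using congrFun (congrFun h (.inr 1)) (.inl 1)
    · simpa [emb, fromBlocks] using congrFun (congrFun h (.inr 1)) (.inr 1)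

/-- The permutation of the two hyperbolic pairs. -/
def swapPairs : Matrix (Fin 2 ⊕ Fin 2) (Fin 2 ⊕ Fin 2) F :=
  fromBlocks !![0, 1; 1, 0] 0 0 !![0, 1; 1, 0]

theorem swapPairs_mem : (swapPairs : Matrix (Fin 2 ⊕ Fin 2) (Fin 2 ⊕ Fin 2) F) ∈
    Matrix.symplecticGroup (Fin 2) F := by
  rw [SymplecticGroup.mem_iff]
  ext (i | i) (j | j) <;> fin_cases i <;> fin_cases j <;>
    simp [swapPairs, Matrix.J, Matrix.mul_apply, Matrix.transpose_apply, Fintype.sum_sum_type,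
      Fin.sum_univ_two, fromBlocks, Matrix.one_apply]

/-- Only the identity among the `emb` is central. -/
theorem emb_central {t v₀ v₁ : F} {A : Matrix (Fin 2) (Fin 2) F}
    (h1 : swapPairs * emb t v₀ v₁ A = emb t v₀ v₁ A * swapPairs)
    (h2 : Matrix.J (Fin 2) F * emb t v₀ v₁ A = emb t v₀ v₁ A * Matrix.J (Fin 2) F) :
    t = 0 ∧ v₀ = 0 ∧ v₁ = 0 ∧ A = 1 := by
  have a := fun i j => congrFun (congrFun h1 i) j
  have b := fun i j => congrFun (congrFun h2 i) j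
  have a1 := a (.inl 0) (.inl 1)
  have a2 := a (.inr 0) (.inr 1)
  have a3 := a (.inl 0) (.inr 1)
  have a4 := a (.inr 0) (.inl 1)
  have a5 := a (.inr 0) (.inr 0)
  have b1 := b (.inr 0) (.inr 0)
  have b2 := b (.inr 1) (.inr 0)
  simp [swapPairs, emb, Matrix.mul_apply, Fintype.sum_sum_type, Fin.sum_univ_two, fromBlocks,
    Matrix.J, Matrix.one_apply] at a1 a2 a3 a4 a5 b1 b2
  refine ⟨?_, ?_, ?_, ?_⟩
  all_goals try ext i j
  all_goals try fin_cases i <;> fin_cases j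
  all_goals try simp [Matrix.one_apply]
  all_goals grind

/-- A symplectic matrix commuting with `emb 1 0 0 1` is, up to sign, one of the `emb`. -/
theorem exists_emb_of_commute (g : Matrix (Fin 2 ⊕ Fin 2) (Fin 2 ⊕ Fin 2) F)
    (hg : g ∈ Matrix.symplecticGroup (Fin 2) F)
    (hc : g * emb 1 0 0 1 = emb 1 0 0 1 * g) :
    ∃ (t v₀ v₁ : F) (A : Matrix (Fin 2) (Fin 2) F), A 0 0 * A 1 1 - A 0 1 * A 1 0 = 1 ∧
      (g = emb t v₀ v₁ A ∨ g = -emb t v₀ v₁ A) := by
  rw [SymplecticGroup.mem_iff] at hg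
  have e := fun i j => congrFun (congrFun hg i) j
  have c := fun i j => congrFun (congrFun hc i) j
  have c1 := c (.inl 0) (.inr 0)
  have c2 := c (.inl 1) (.inr 0)
  have c3 := c (.inr 1) (.inr 0)
  have c4 := c (.inr 0) (.inr 0)
  have c5 := c (.inl 0) (.inl 1)
  have c6 := c (.inl 0) (.inr 1)
  have e1 := e (.inl 0) (.inr 0)
  have e2 := e (.inl 1) (.inr 1)
  have e3 := e (.inl 0) (.inl 1)
  have e4 := e (.inl 0) (.inr 1)
  simp [emb, Matrix.mul_apply, Matrix.transpose_apply, Fintype.sum_sum_type, Fin.sum_univ_two,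
    fromBlocks, Matrix.J, Matrix.one_apply] at c1 c2 c3 c4 c5 c6 e1 e2 e3 e4
  have hl : g (.inl 0) (.inl 0) = 1 ∨ g (.inl 0) (.inl 0) = -1 := by
    have : g (.inl 0) (.inl 0) * g (.inl 0) (.inl 0) = 1 := by grind
    exact mul_self_eq_one_iff.mp this
  rcases hl with h | h
  · refine ⟨g (.inl 0) (.inr 0), g (.inl 1) (.inr 0), g (.inr 1) (.inr 0),
      !![g (.inl 1) (.inl 1), g (.inl 1) (.inr 1); g (.inr 1) (.inl 1), g (.inr 1) (.inr 1)],
      by simp; grind, Or.inl ?_⟩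
    ext (i | i) (j | j) <;> fin_cases i <;> fin_cases j <;> simp [emb, fromBlocks] <;> grind
  · refine ⟨-g (.inl 0) (.inr 0), -g (.inl 1) (.inr 0), -g (.inr 1) (.inr 0),
      !![-g (.inl 1) (.inl 1), -g (.inl 1) (.inr 1); -g (.inr 1) (.inl 1), -g (.inr 1) (.inr 1)],
      by simp; grind, Or.inr ?_⟩
    ext (i | i) (j | j) <;> fin_cases i <;> fin_cases j <;> simp [emb, fromBlocks] <;> grind

end Cfsg.Agent.Recognition.HeisSL23
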