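import Cfsg.Agent.Recognition.HeisSL23.Split
import Cfsg.Agent.Recognition.HeisSL23.Matrices

/-!
A group of shape `3^{1+2}.SL(2,3)` is the centralizer of a long root element of `PSp₄(3)`.
-/

set_option linter.all false
set_option autoImplicit false

namespace Cfsg.Agent.Recognition.HeisSL23

open Matrix Subgroup

variable {X : Type*} [Group X] [Finite X]

namespace Ctx

variable (C : Ctx X)

theorem decomp (K : Subgroup X) (hK : ∀ A, ∃! k, k ∈ K ∧ C.ψ k = A) (g : X) :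
    ∃ (a b c : ZMod 3) (k : X), k ∈ K ∧ g = C.H.W a b c * k := by
  obtain ⟨k, ⟨hk, hkA⟩, -⟩ := hK (C.ψ g)
  have hr : g * k⁻¹ ∈ C.H.R := C.ψ_ker.mp (by rw [map_mul, map_inv, hkA, mul_inv_cancel])
  obtain ⟨a, b, c, he⟩ := C.H.W_surj hr
  exact ⟨a, b, c, k, hk, by rw [← he, inv_mul_cancel_right]⟩

theorem decomp_unique (K : Subgroup X) (hK : ∀ A, ∃! k, k ∈ K ∧ C.ψ k = A) {a b c a' b' c' : ZMod 3}
    {k k' : X} (hk : k ∈ K) (hk' : k' ∈ K) (h : C.H.W a b c * k = C.H.W a' b' c' * k') :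
    a = a' ∧ b = b' ∧ c = c' ∧ k = k' := by
  have hA : C.ψ k = C.ψ k' := by
    have := congrArg C.ψ h
    simpa [map_mul, C.ψ_ker.mpr (C.H.W_mem a b c), C.ψ_ker.mpr (C.H.W_mem a' b' c')] using this
  obtain ⟨k₀, -, hu⟩ := hK (C.ψ k)
  have hkk : k = k' := (hu k ⟨hk, rfl⟩).trans (hu k' ⟨hk', hA.symm⟩).symm
  subst hkk
  obtain ⟨h1, h2, h3⟩ := C.H.W_inj (mul_right_cancel h)
  exact ⟨h1, h2, h3, rfl⟩

variable {F : Type*} [Field F] (ι : ZMod 3 →+* F)

/-- The matrix attached to an element written as `W a b c * k`. -/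
def matOf (a b c : ZMod 3) (A : Matrix (Fin 2) (Fin 2) (ZMod 3)) :
    Matrix (Fin 2 ⊕ Fin 2) (Fin 2 ⊕ Fin 2) F :=
  emb (ι (a * b - c)) (ι a) (ι b) (A.map ι)

theorem det_map {A : Matrix (Fin 2) (Fin 2) (ZMod 3)} (hA : A.det = 1) :
    (A.map ι) 0 0 * (A.map ι) 1 1 - (A.map ι) 0 1 * (A.map ι) 1 0 = 1 := by
  rw [det_fin_two] at hA
  simp only [Matrix.map_apply]
  rw [← map_mul, ← map_mul, ← map_sub, hA, map_one]

theorem matOf_mul {k k' : X} (hk : k ∈ C.cent) (a b c a' b' c' : ZMod 3) :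
    ∃ p q r, C.H.W a b c * k * (C.H.W a' b' c' * k') = C.H.W p q r * (k * k') ∧
      matOf ι a b c (C.H.φ k) * matOf ι a' b' c' (C.H.φ k') =
        matOf ι p q r (C.H.φ (k * k')) := by
  set v := C.H.φ k *ᵥ ![a', b'] with hv
  have hconj : k * C.H.W a' b' c' * k⁻¹ = C.H.W (v 0) (v 1) (v 0 * v 1 + (c' - a' * b')) := by
    have h1 : C.H.W a' b' c' = C.s a' b' * pw C.H.z (c' - a' * b') := by
      rw [Ctx.s]; simp only [Heis.W]
      rw [mul_assoc _ (pw C.H.z _) (pw C.H.z _), ← pw_add (C.H.hexp _ C.H.zmem), add_sub_cancel]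
    calc k * C.H.W a' b' c' * k⁻¹ = (k * C.s a' b' * k⁻¹) * (k * pw C.H.z (c' - a' * b') * k⁻¹) := by
          rw [h1]; group
      _ = C.s (v 0) (v 1) * pw C.H.z (c' - a' * b') := by
          rw [C.conj_s hk, Heis.conj_pw, C.z_central]
      _ = _ := by
          rw [Ctx.s]; simp only [Heis.W]
          rw [mul_assoc _ (pw C.H.z _) (pw C.H.z _), ← pw_add (C.H.hexp _ C.H.zmem)]
  refine ⟨a + v 0, b + v 1, c + (v 0 * v 1 + (c' - a' * b')) - v 0 * b, ?_, ?_⟩
  · calc C.H.W a b c * k * (C.H.W a' b' c' * k')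
        = C.H.W a b c * (k * C.H.W a' b' c' * k⁻¹) * (k * k') := by group
      _ = _ := by rw [hconj, C.H.W_mul]
  · rw [matOf, matOf, matOf, emb_mul _ _ _ _ _ _ _ _ (det_map ι (C.φ_det k)), map_mul,
      Matrix.map_mul]
    have h3 : (3 : ZMod 3) = 0 := by decide
    simp only [Matrix.map_apply, ← map_mul, ← map_add, ← map_sub]
    have e0 : v 0 = C.H.φ k 0 0 * a' + C.H.φ k 0 1 * b' := by
      simp [hv, Matrix.mulVec, dotProduct, Fin.sum_univ_two]
    have e1 : v 1 = C.H.φ k 1 0 * a' + C.H.φ k 1 1 * b' := by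
      simp [hv, Matrix.mulVec, dotProduct, Fin.sum_univ_two]
    rw [← e0, ← e1]
    congr 2
    linear_combination (-(v 0 * b)) * h3

theorem exists_hom (K : Subgroup X) (hKc : K ≤ C.cent) (hK : ∀ A, ∃! k, k ∈ K ∧ C.ψ k = A) :
    ∃ Φ : X →* Matrix.symplecticGroup (Fin 2) F, ∀ a b c, ∀ k ∈ K,
      (Φ (C.H.W a b c * k) : Matrix (Fin 2 ⊕ Fin 2) (Fin 2 ⊕ Fin 2) F) = matOf ι a b c (C.H.φ k) := by
  choose a b c k hk hg using C.decomp K hK
  let f : X → Matrix.symplecticGroup (Fin 2) F := fun g =>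
    ⟨matOf ι (a g) (b g) (c g) (C.H.φ (k g)), emb_mem _ _ _ _ (det_map ι (C.φ_det _))⟩
  have key : ∀ a' b' c', ∀ k' ∈ K, (f (C.H.W a' b' c' * k') : Matrix (Fin 2 ⊕ Fin 2) (Fin 2 ⊕ Fin 2) F) =
      matOf ι a' b' c' (C.H.φ k') := by
    intro a' b' c' k' hk'
    obtain ⟨h1, h2, h3, h4⟩ :=
      C.decomp_unique K hK hk' (hk _) (hg (C.H.W a' b' c' * k'))
    simp only [f]
    rw [← h1, ← h2, ← h3, ← h4]
  have hone : f 1 = 1 := by
    apply Subtype.ext
    have := key 0 0 0 1 K.one_mem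
    rw [C.H.W_zero, mul_one, map_one] at this
    rw [this, matOf, Matrix.map_one _ (map_zero ι) (map_one ι)]
    simpa using emb_one
  have hmul : ∀ g h, f (g * h) = f g * f h := by
    intro g h
    apply Subtype.ext
    obtain ⟨p, q, r, h1, h2⟩ :=
      C.matOf_mul ι (k' := k h) (hKc (hk g)) (a g) (b g) (c g) (a h) (b h) (c h)
    rw [← hg g, ← hg h] at h1
    rw [h1, key p q r _ (K.mul_mem (hk g) (hk h)), ← h2]
    rfl
  exact ⟨{ toFun := f, map_one' := hone, map_mul' := hmul }, key⟩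

end Ctx

theorem two_ne_zero3 : (2 : ZMod 3) ≠ 0 := by decide

theorem neg_one_ne_zero3 : (-1 : ZMod 3) ≠ 0 := by decide

theorem one_eq3 : (1 : ZMod 3) = -1 + -1 - 0 * 0 := by decide

theorem cases3 : ∀ d : ZMod 3, d ≠ 0 → d = 1 ∨ d = -1 := by decide

section Target

variable {F : Type*} [Field F]

/-- The long root element. -/
def tau : Matrix.symplecticGroup (Fin 2) F := ⟨emb 1 0 0 1, emb_mem _ _ _ _ (by simp)⟩

theorem central_eq (M : Matrix.symplecticGroup (Fin 2) F)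
    (hM : M ∈ Subgroup.center (Matrix.symplecticGroup (Fin 2) F)) :
    (M : Matrix (Fin 2 ⊕ Fin 2) (Fin 2 ⊕ Fin 2) F) = 1 ∨ (M : Matrix (Fin 2 ⊕ Fin 2) (Fin 2 ⊕ Fin 2) F) = -1 := by
  have hc : ∀ N : Matrix.symplecticGroup (Fin 2) F, (N : Matrix (Fin 2 ⊕ Fin 2) (Fin 2 ⊕ Fin 2) F) * M = (M : Matrix (Fin 2 ⊕ Fin 2) (Fin 2 ⊕ Fin 2) F) * N :=
    fun N => congrArg Subtype.val (Subgroup.mem_center_iff.mp hM N)
  obtain ⟨t, v₀, v₁, A, hA, h | h⟩ := exists_emb_of_commute (M : Matrix (Fin 2 ⊕ Fin 2) (Fin 2 ⊕ Fin 2) F) M.2 (hc tau).symm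
  all_goals
    have h1 := hc ⟨_, swapPairs_mem⟩
    have h2 := hc ⟨_, SymplecticGroup.J_mem (Fin 2) F⟩
    simp only [h, Matrix.mul_neg, Matrix.neg_mul, neg_inj] at h1 h2
    obtain ⟨rfl, rfl, rfl, rfl⟩ := emb_central h1 h2
  · left; rw [h, emb_one]
  · right; rw [h, emb_one]

theorem neg_mem_center {M : Matrix.symplecticGroup (Fin 2) F} (h : (M : Matrix (Fin 2 ⊕ Fin 2) (Fin 2 ⊕ Fin 2) F) = -1) :
    M ∈ Subgroup.center (Matrix.symplecticGroup (Fin 2) F) :=
  Subgroup.mem_center_iff.mpr fun N => Subtype.ext (by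
    change (N : Matrix (Fin 2 ⊕ Fin 2) (Fin 2 ⊕ Fin 2) F) * M = (M : Matrix (Fin 2 ⊕ Fin 2) (Fin 2 ⊕ Fin 2) F) * N
    rw [h]; simp)

end Target

set_option maxHeartbeats 2000000 in
theorem main (H : Heis X) (Q : Quot H)
    (hE : ∃ E : Subgroup X, IsMulCommutative E ∧ (∀ a ∈ E, a ^ 3 = 1) ∧ Nat.card E = 27)
    (F : Type*) [Field F] [Fintype F] (hF : Fintype.card F = 3) :
    ∃ (c : Cfsg.PSp 2 F) (S : Sylow 3 (Cfsg.PSp 2 F)), orderOf c = 3 ∧
      c ∈ (S : Subgroup (Cfsg.PSp 2 F)) ∧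
      c ∈ Subgroup.centralizer ((S : Subgroup (Cfsg.PSp 2 F)) : Set (Cfsg.PSp 2 F)) ∧
      Nonempty (X ≃* Subgroup.centralizer ({c} : Set (Cfsg.PSp 2 F))) := by
  classical
  obtain ⟨C⟩ := Ctx.exists_ctx H Q
  obtain ⟨K, hKc, hK⟩ := C.exists_complement hE
  haveI : Fact (Nat.Prime 3) := ⟨Nat.prime_three⟩
  haveI : CharP F 3 := charP_of_card_eq_prime (by rw [← hF])
  let ι := ZMod.castHom (dvd_refl 3) F
  have hι : Function.Bijective ι := (Fintype.bijective_iff_injective_and_card _).mpr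
    ⟨ι.injective, by rw [hF, ZMod.card]⟩
  have h2F : (2 : F) ≠ 0 := by
    intro h
    have h' : ι 2 = ι 0 := by rw [map_zero, map_ofNat]; exact h
    exact (show (2 : ZMod 3) ≠ 0 from two_ne_zero3) (hι.1 h')
  obtain ⟨Φ, hΦ⟩ := C.exists_hom ι K hKc hK
  let mk := QuotientGroup.mk' (Subgroup.center (Matrix.symplecticGroup (Fin 2) F))
  let Ψ : X →* Cfsg.PSp 2 F := mk.comp Φ
  have hz : ∀ g, g * C.H.z * g⁻¹ = C.H.z := C.z_central
  have hinj : Function.Injective Ψ := by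
    rw [← MonoidHom.ker_eq_bot_iff, eq_bot_iff]
    intro g hg
    have hc : Φ g ∈ Subgroup.center (Matrix.symplecticGroup (Fin 2) F) :=
      (QuotientGroup.eq_one_iff _).mp hg
    have hcomm : ∀ N : Matrix.symplecticGroup (Fin 2) F,
        (N : Matrix (Fin 2 ⊕ Fin 2) (Fin 2 ⊕ Fin 2) F) * Φ g = (Φ g : Matrix (Fin 2 ⊕ Fin 2) (Fin 2 ⊕ Fin 2) F) * N :=
      fun N => congrArg Subtype.val (Subgroup.mem_center_iff.mp hc N)
    obtain ⟨a, b, c, k, hk, rfl⟩ := C.decomp K hK g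
    have h1 := hcomm ⟨_, swapPairs_mem⟩
    have h2 := hcomm ⟨_, SymplecticGroup.J_mem (Fin 2) F⟩
    rw [hΦ a b c k hk] at h1 h2
    obtain ⟨ht, ha, hb, hA⟩ := emb_central h1 h2
    have ha' : a = 0 := hι.1 (by rw [ha, map_zero])
    have hb' : b = 0 := hι.1 (by rw [hb, map_zero])
    have hc' : c = 0 := by
      have h0 : a * b - c = 0 := hι.1 (by rw [ht, map_zero])
      rw [ha', zero_mul] at h0
      linear_combination -h0
    have hψ : C.ψ k = 1 := Subtype.ext (by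
      have : (C.H.φ k).map ι = (1 : Matrix (Fin 2) (Fin 2) (ZMod 3)).map ι := by
        rw [hA, Matrix.map_one _ (map_zero ι) (map_one ι)]
      exact Matrix.map_injective hι.1 this)
    obtain ⟨k₀, -, hu⟩ := hK 1
    have hk1 : k = 1 := (hu k ⟨hk, hψ⟩).trans (hu 1 ⟨K.one_mem, map_one _⟩).symm
    rw [Subgroup.mem_bot, ha', hb', hc', hk1, C.H.W_zero, mul_one]
  let z' := C.H.W 0 0 (-1)
  have hΦz : Φ z' = tau := Subtype.ext (by
    have := hΦ 0 0 (-1) 1 K.one_mem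
    rw [mul_one, map_one] at this
    rw [this, Ctx.matOf, Matrix.map_one _ (map_zero ι) (map_one ι)]
    simp [tau])
  let c := Ψ z'
  have hzc : ∀ g : X, g * z' = z' * g := fun g => by
    have : z' = pw C.H.z (-1) := by simp [z', Heis.W, pw_zero]
    rw [this]; exact (C.pw_z_comm _ g).eq.symm
  have hz'ne : z' ≠ 1 := fun h => by
    rw [← C.H.W_zero] at h
    obtain ⟨-, -, h3⟩ := C.H.W_inj h
    exact neg_one_ne_zero3 h3
  have hord : orderOf c = 3 := by
    rw [orderOf_injective Ψ hinj]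
    exact orderOf_eq_prime (C.H.hexp _ (C.H.W_mem _ _ _)) hz'ne
  have hrange : Ψ.range = Subgroup.centralizer ({c} : Set (Cfsg.PSp 2 F)) := by
    refine le_antisymm ?_ ?_
    · rintro _ ⟨g, rfl⟩
      rw [Subgroup.mem_centralizer_singleton_iff, ← map_mul, ← map_mul, hzc]
    · intro u hu
      rw [Subgroup.mem_centralizer_singleton_iff] at hu
      obtain ⟨G, rfl⟩ := QuotientGroup.mk'_surjective _ u
      have hT : c = mk tau := by simp only [c, Ψ, MonoidHom.comp_apply, hΦz]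
      rw [hT] at hu
      have hζ : G * tau * G⁻¹ * tau⁻¹ ∈ Subgroup.center (Matrix.symplecticGroup (Fin 2) F) := by
        refine (QuotientGroup.eq_one_iff _).mp (show mk (G * tau * G⁻¹ * tau⁻¹) = 1 from ?_)
        rw [map_mul, map_mul, map_mul, map_inv, map_inv]
        change mk G * mk tau = mk tau * mk G at hu
        rw [hu]
        group
      have hT3 : (tau : Matrix.symplecticGroup (Fin 2) F) ^ 3 = 1 := by
        rw [← hΦz, ← map_pow, C.H.hexp _ (C.H.W_mem _ _ _), map_one]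
      have hcomm : G * tau = tau * G := by
        rcases central_eq _ hζ with h | h
        · have h' : G * tau * G⁻¹ * tau⁻¹ = 1 := Subtype.ext h
          exact mul_inv_eq_iff_eq_mul.mp (mul_inv_eq_one.mp h')
        · exfalso
          set ζ := G * tau * G⁻¹ * tau⁻¹ with hζ0
          have e : (ζ * tau) ^ 3 = 1 := by
            rw [hζ0, inv_mul_cancel_right, conj_pow, hT3, mul_one, mul_inv_cancel]
          have e2 : ζ ^ 3 = 1 := by
            rwa [(show Commute ζ tau from ((Subgroup.mem_center_iff.mp hζ) tau).symm).mul_pow, hT3,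
              mul_one] at e
          have e3 : ((ζ : Matrix (Fin 2 ⊕ Fin 2) (Fin 2 ⊕ Fin 2) F)) ^ 3 = 1 := by
            rw [← SubmonoidClass.coe_pow, e2]; rfl
          rw [h, neg_pow, one_pow, mul_one] at e3
          have e4 := congrFun (congrFun e3 (.inl 0)) (.inl 0)
          norm_num at e4
          exact h2F (by linear_combination -e4)
      obtain ⟨t, v₀, v₁, A, hA, h⟩ := exists_emb_of_commute (G : Matrix (Fin 2 ⊕ Fin 2) (Fin 2 ⊕ Fin 2) F) G.2
        (congrArg Subtype.val hcomm)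
      obtain ⟨t', rfl⟩ := hι.2 t
      obtain ⟨a, rfl⟩ := hι.2 v₀
      obtain ⟨b, rfl⟩ := hι.2 v₁
      choose A' hA' using fun i j => hι.2 (A i j)
      let B : Matrix (Fin 2) (Fin 2) (ZMod 3) := Matrix.of A'
      have hB : B.det = 1 := hι.1 (by
        rw [map_one, ← hA, det_fin_two, map_sub, map_mul, map_mul]
        simp [B, hA'])
      obtain ⟨k, ⟨hk, hkB⟩, -⟩ := hK ⟨B, hB⟩
      refine ⟨C.H.W a b (a * b - t') * k, ?_⟩
      have hv : (Φ (C.H.W a b (a * b - t') * k) : Matrix (Fin 2 ⊕ Fin 2) (Fin 2 ⊕ Fin 2) F) = emb (ι t') (ι a) (ι b) A := by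
        rw [hΦ _ _ _ k hk, Ctx.matOf, sub_sub_cancel]
        congr 1
        have : C.H.φ k = B := congrArg Subtype.val hkB
        rw [this]; ext i j; simp [B, hA']
      rcases h with h | h
      · exact congrArg mk (Subtype.ext (hv.trans h.symm))
      · apply QuotientGroup.eq.mpr
        apply neg_mem_center
        have hn : (G : Matrix (Fin 2 ⊕ Fin 2) (Fin 2 ⊕ Fin 2) F) = -(Φ (C.H.W a b (a * b - t') * k) : Matrix (Fin 2 ⊕ Fin 2) (Fin 2 ⊕ Fin 2) F) := by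
          rw [hv]; exact h
        set u := Φ (C.H.W a b (a * b - t') * k) with hu0
        change ((u⁻¹ : Matrix.symplecticGroup (Fin 2) F) : Matrix (Fin 2 ⊕ Fin 2) (Fin 2 ⊕ Fin 2) F) * (G : Matrix (Fin 2 ⊕ Fin 2) (Fin 2 ⊕ Fin 2) F) = -1
        rw [hn, Matrix.mul_neg]
        have := congrArg Subtype.val (inv_mul_cancel u)
        rw [show ((u⁻¹ : Matrix.symplecticGroup (Fin 2) F) : Matrix (Fin 2 ⊕ Fin 2) (Fin 2 ⊕ Fin 2) F) * (u : Matrix (Fin 2 ⊕ Fin 2) (Fin 2 ⊕ Fin 2) F) = 1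
          from this]
  obtain ⟨P⟩ := (inferInstance : Nonempty (Sylow 3 X))
  obtain ⟨S, hS⟩ := (P.2.map Ψ).exists_le_sylow
  have hcomap : IsPGroup 3 ((S : Subgroup (Cfsg.PSp 2 F)).comap Ψ) :=
    S.2.comap_of_injective Ψ hinj
  have hPeq : (S : Subgroup (Cfsg.PSp 2 F)).comap Ψ = P :=
    P.3 hcomap (Subgroup.map_le_iff_le_comap.mp hS)
  have hRP : C.H.R ≤ P := by
    have hR : IsPGroup 3 C.H.R := IsPGroup.of_card (n := 3) (by rw [C.H.card]; norm_num)
    obtain ⟨T, hT⟩ := hR.exists_le_sylow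
    obtain ⟨g, rfl⟩ := MulAction.exists_smul_eq X T P
    intro r hr
    rw [Sylow.coe_subgroup_smul, Subgroup.mem_pointwise_smul_iff_inv_smul_mem, MulAut.smul_def,
      MulAut.conj_inv_apply]
    exact hT (by simpa using C.H.normal.conj_mem r hr g⁻¹)
  have hz'P : z' ∈ (P : Subgroup X) := hRP (C.H.W_mem _ _ _)
  have hcS : c ∈ (S : Subgroup (Cfsg.PSp 2 F)) := hS ⟨z', hz'P, rfl⟩
  -- the image of the Sylow subgroup is all of `S`
  have hSle : (S : Subgroup (Cfsg.PSp 2 F)) ≤ Ψ.range := by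
    by_contra hnot
    have hlt : (P : Subgroup X).map Ψ < S := lt_of_le_of_ne hS fun he =>
      hnot (he ▸ Subgroup.map_le_range _ _)
    have hlt' : ((P : Subgroup X).map Ψ).subgroupOf S < ⊤ := by
      rw [lt_top_iff_ne_top, Ne, Subgroup.subgroupOf_eq_top]
      exact not_le_of_gt hlt
    haveI := S.2.isNilpotent
    obtain ⟨y, hyN, hy⟩ := SetLike.exists_of_lt (normalizerCondition_of_isNilpotent _ hlt')
    have hconj : ∀ w ∈ (P : Subgroup X).map Ψ, (y : Cfsg.PSp 2 F) * w * (y : Cfsg.PSp 2 F)⁻¹ ∈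
        (P : Subgroup X).map Ψ := fun w hw => by
      have := (Subgroup.mem_normalizer_iff.mp hyN ⟨w, hS hw⟩).mp hw
      simpa [Subgroup.mem_subgroupOf] using this
    obtain ⟨u, hu, hue⟩ := hconj c ⟨z', hz'P, rfl⟩
    -- `u` centralizes the Sylow subgroup, hence lies in the centre of `R`
    have hucen : ∀ w ∈ (P : Subgroup X), u * w = w * u := by
      intro w hw
      apply hinj
      obtain ⟨w', hw', hwe⟩ : (y : Cfsg.PSp 2 F)⁻¹ * Ψ w * y ∈ (P : Subgroup X).map Ψ := by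
        have := (Subgroup.mem_normalizer_iff.mp (inv_mem hyN) ⟨Ψ w, hS ⟨w, hw, rfl⟩⟩).mp ⟨w, hw, rfl⟩
        simpa [Subgroup.mem_subgroupOf] using this
      rw [map_mul, map_mul, hue,
        show Ψ w = (y : Cfsg.PSp 2 F) * Ψ w' * (y : Cfsg.PSp 2 F)⁻¹ by rw [hwe]; group]
      have : c * Ψ w' = Ψ w' * c := by rw [← map_mul, ← map_mul, hzc]
      calc (y : Cfsg.PSp 2 F) * c * (y : Cfsg.PSp 2 F)⁻¹ * (y * Ψ w' * (y : Cfsg.PSp 2 F)⁻¹)
          = y * (c * Ψ w') * (y : Cfsg.PSp 2 F)⁻¹ := by group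
        _ = _ := by rw [this]; group
    have huR : u ∈ C.H.R := by
      apply C.φ_ker
      have key : ∀ r ∈ C.H.R, C.H.q (u * r * u⁻¹) = C.H.q r := fun r hr => by
        rw [hucen r (hRP hr), mul_inv_cancel_right]
      change C.H.M u = 1
      ext i j
      fin_cases i <;> fin_cases j <;> simp [Heis.M, key _ C.H.hx, key _ C.H.hy] <;>
        simp [← C.H.W_x, ← C.H.W_y, C.H.q_W]
    obtain ⟨a, b, d, hW⟩ := C.H.W_surj huR
    have hab : a = 0 ∧ b = 0 := by
      have h1 := hucen _ (hRP C.H.hx)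
      have h2 := hucen _ (hRP C.H.hy)
      rw [hW, ← C.H.W_x, C.H.W_mul, C.H.W_mul] at h1
      rw [hW, ← C.H.W_y, C.H.W_mul, C.H.W_mul] at h2
      obtain ⟨-, -, h1⟩ := C.H.W_inj h1
      obtain ⟨-, -, h2⟩ := C.H.W_inj h2
      exact ⟨by linear_combination h2, by linear_combination -h1⟩
    rw [hab.1, hab.2] at hW
    -- so `y` maps `c` to `c` or its square, and has odd order
    have hcases : u = z' ∨ u = z' ^ 2 := by
      have hu1 : u ≠ 1 := fun h => by
        rw [h, map_one] at hue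
        have hc1 : c = 1 := conj_eq_one_iff.mp hue.symm
        rw [hc1, orderOf_one] at hord
        norm_num at hord
      have hd : d = 1 ∨ d = -1 := by
        have : d ≠ 0 := fun h => hu1 (by rw [hW, h, C.H.W_zero])
        exact cases3 d this
      rcases hd with rfl | rfl
      · right
        rw [hW, pow_two, C.H.W_mul]; congr 1 <;> first | rfl | decide | exact one_eq3
      · left; rw [hW]
    apply hy
    rw [Subgroup.mem_subgroupOf]
    have hyC : (y : Cfsg.PSp 2 F) * c * (y : Cfsg.PSp 2 F)⁻¹ = c := by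
      rcases hcases with rfl | rfl
      · exact hue.symm
      · exfalso
        have h2 : (y : Cfsg.PSp 2 F) * c * (y : Cfsg.PSp 2 F)⁻¹ = c ^ 2 := by
          rw [← hue, map_pow]
        have hiter : ∀ n : ℕ, (y : Cfsg.PSp 2 F) ^ n * c * ((y : Cfsg.PSp 2 F) ^ n)⁻¹ = c ^ (2 ^ n) := by
          intro n
          induction n with
          | zero => simp
          | succ n ih =>
            calc (y : Cfsg.PSp 2 F) ^ (n + 1) * c * ((y : Cfsg.PSp 2 F) ^ (n + 1))⁻¹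
                = (y : Cfsg.PSp 2 F) * ((y : Cfsg.PSp 2 F) ^ n * c * ((y : Cfsg.PSp 2 F) ^ n)⁻¹) *
                    (y : Cfsg.PSp 2 F)⁻¹ := by rw [pow_succ']; group
              _ = ((y : Cfsg.PSp 2 F) * c * (y : Cfsg.PSp 2 F)⁻¹) ^ (2 ^ n) := by rw [ih, conj_pow]
              _ = c ^ (2 ^ (n + 1)) := by rw [h2, ← pow_mul, pow_succ' 2 n]
        obtain ⟨n, hn⟩ := S.2 y
        have hn' : (y : Cfsg.PSp 2 F) ^ (3 ^ n) = 1 := congrArg Subtype.val hn
        have h5 := hiter (3 ^ n)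
        rw [hn', one_mul, inv_one, mul_one] at h5
        have h6 : (2 : ℕ) ^ 3 ^ n ≡ 1 [MOD orderOf c] :=
          (pow_eq_pow_iff_modEq.mp (by rw [pow_one]; exact h5)).symm
        rw [hord, Nat.ModEq] at h6
        have h7 : Odd (3 ^ n) := Odd.pow (by decide)
        obtain ⟨m, hm⟩ := h7
        rw [hm, pow_succ, pow_mul, Nat.mul_mod, Nat.pow_mod] at h6
        norm_num at h6
    have hyr : (y : Cfsg.PSp 2 F) ∈ Ψ.range := by
      rw [hrange, Subgroup.mem_centralizer_singleton_iff]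
      exact mul_inv_eq_iff_eq_mul.mp hyC
    obtain ⟨w, hw⟩ := hyr
    exact ⟨w, hPeq ▸ (show w ∈ (S : Subgroup (Cfsg.PSp 2 F)).comap Ψ by
      rw [Subgroup.mem_comap, hw]; exact y.2), hw⟩
  have hcC : c ∈ Subgroup.centralizer ((S : Subgroup (Cfsg.PSp 2 F)) : Set (Cfsg.PSp 2 F)) := by
    intro s hs
    obtain ⟨g, rfl⟩ := hSle hs
    rw [← map_mul, ← map_mul, hzc]
  exact ⟨c, S, hord, hcS, hcC,
    ⟨(MonoidHom.ofInjective hinj).trans (MulEquiv.subgroupCongr hrange)⟩⟩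

end Cfsg.Agent.Recognition.HeisSL23
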