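import Cfsg.Agent.Recognition.HeisSL23.Structure

/-!
A group of shape `3^{1+2}.SL(2,3)` with trivial `2`-core and an elementary abelian subgroup of
order 27: decomposition as Heisenberg group times a complement centralizing an involution.
-/

set_option linter.all false
set_option autoImplicit false

namespace Cfsg.Agent.Recognition.HeisSL23

open Matrix Subgroup

local notation "SL23" => Matrix.SpecialLinearGroup (Fin 2) (ZMod 3)

variable {X : Type*} [Group X] [Finite X]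

/-- The quotient map onto `SL(2,3)`. -/
structure Quot (H : Heis X) where
  π : X →* SL23
  surj : Function.Surjective π
  ker : ∀ g, π g = 1 ↔ g ∈ H.R
  core : ∀ N : Subgroup X, N.Normal → IsPGroup 2 N → N = ⊥

theorem neg_one_ne_one : (-1 : SL23) ≠ 1 := by decide +kernel

theorem Quot.exists_involution {H : Heis X} (Q : Quot H) : ∃ j : X, Q.π j = -1 ∧ j * j = 1 := by
  obtain ⟨g, hg⟩ := Q.surj (-1)
  have h1 : (g * g) ^ 3 = 1 := H.hexp _ ((Q.ker _).mp (by rw [map_mul, hg]; decide +kernel))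
  refine ⟨g ^ 3, by rw [map_pow, hg]; decide +kernel, ?_⟩
  rw [← pow_add]
  simpa [← pow_two, ← pow_mul] using h1

theorem Quot.φ_invol {H : Heis X} (Q : Quot H) {j : X} (hj : Q.π j = -1) (hj2 : j * j = 1) :
    H.φ j = -1 := by
  obtain ⟨u, hu⟩ := Q.surj (⟨!![0, -1; 1, 0], by decide +kernel⟩ : SL23)
  have hju : H.φ j = H.φ u ^ 2 := by
    have hm : j * (u ^ 2)⁻¹ ∈ H.R := (Q.ker _).mp (by
      rw [map_mul, map_inv, map_pow, hj, hu]; decide +kernel)
    have := H.φ_of_mem hm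
    rw [← map_pow]
    calc H.φ j = H.φ (j * (u ^ 2)⁻¹ * u ^ 2) := by rw [inv_mul_cancel_right]
      _ = H.φ (u ^ 2) := by rw [map_mul, this, one_mul]
  have hsq : H.φ j ^ 2 = 1 := by rw [← map_pow, pow_two, hj2, map_one]
  have hne : H.φ j ≠ 1 := by
    intro h1
    -- `j` would centralize `R`, so be the only involution of a normal subgroup
    have hjz : j * H.z * j⁻¹ = H.z := by
      have h2 : H.M j = 1 := h1
      rw [H.conj_z, h2, det_one, pw_one]
    have hfix : ∀ r ∈ H.R, H.q r = H.q (j * r * j⁻¹) := fun r hr => by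
      rw [H.q_conj j hr, show H.M j = 1 from h1, one_mulVec]
    have hzpw : ∀ t, j * pw H.z t * j⁻¹ = pw H.z t := fun t => by rw [Heis.conj_pw, hjz]
    have hc : ∀ r ∈ H.R, Commute j r := by
      intro r hr
      obtain ⟨a, b, c, hc0⟩ := H.W_surj hr
      obtain ⟨a', b', c', hc1⟩ := H.W_surj (H.conj_mem j hr)
      have hq := hfix r hr
      rw [hc1, hc0, H.q_W, H.q_W] at hq
      have ha : a = a' := congrFun hq 0
      have hb : b = b' := congrFun hq 1
      have hw : ∀ t, H.W a b c * pw H.z t = H.W a b (c + t) := fun t => by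
        simp only [Heis.W]; rw [mul_assoc, ← pw_add (H.hexp _ H.zmem)]
      have e1 : j * r * j⁻¹ = r * pw H.z (c' - c) := by
        rw [hc1, hc0, hw, ← ha, ← hb, add_sub_cancel]
      have e2 : r = r * pw H.z ((c' - c) + (c' - c)) := by
        calc r = (j * j) * r * (j * j)⁻¹ := by rw [hj2]; group
          _ = j * (j * r * j⁻¹) * j⁻¹ := by group
          _ = j * (r * pw H.z (c' - c)) * j⁻¹ := by rw [e1]
          _ = (j * r * j⁻¹) * (j * pw H.z (c' - c) * j⁻¹) := by group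
          _ = _ := by rw [hzpw, e1, pw_add (H.hexp _ H.zmem), mul_assoc]
      have hd : (c' - c) + (c' - c) = 0 := H.zc_eq_one (mul_eq_left.mp e2.symm)
      have hd0 : c' - c = 0 := by
        revert hd; generalize c' - c = d; revert d; decide +kernel
      rw [hd0, pw_zero, mul_one] at e1
      exact mul_inv_eq_iff_eq_mul.mp e1
    have huniq : ∀ v : X, v * v = 1 → v ≠ 1 → (Q.π v = 1 ∨ Q.π v = -1) → v = j := by
      intro v hv hv1 hv2
      have hR : ∀ r ∈ H.R, r * r = 1 → r = 1 := fun r hr h2 => by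
        have h3 := H.hexp r hr
        rwa [pow_succ, pow_two, h2, one_mul] at h3
      rcases hv2 with h2 | h2
      · exact absurd (hR v ((Q.ker v).mp h2) hv) hv1
      · have hr : v * j ∈ H.R := (Q.ker _).mp (by rw [map_mul, h2, hj]; decide +kernel)
        have hvj : v = (v * j) * j := by rw [mul_assoc, hj2, mul_one]
        have : (v * j) * (v * j) = 1 := by
          have hcomm := (hc _ hr).eq
          calc (v * j) * (v * j) = v * (j * (v * j)) := by rw [mul_assoc]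
            _ = v * ((v * j) * j) := by rw [hcomm]
            _ = 1 := by rw [← hvj, hv]
        rw [hvj, hR _ hr this, one_mul]
    have hj1 : j ≠ 1 := fun h => neg_one_ne_one (by rw [← hj, h, map_one])
    have hcent : ∀ g : X, g * j * g⁻¹ = j := fun g => by
      refine huniq _ ?_ ?_ (Or.inr ?_)
      · rw [show g * j * g⁻¹ * (g * j * g⁻¹) = g * (j * j) * g⁻¹ by group, hj2]; group
      · intro h
        exact hj1 (conj_eq_one_iff.mp h)
      · rw [map_mul, map_mul, map_inv, hj]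
        generalize Q.π g = A
        revert A; decide +kernel
    have hn : (zpowers j).Normal := ⟨fun n hn g => by
      obtain ⟨k, rfl⟩ := hn
      rw [← conj_zpow, hcent]
      exact zpow_mem (mem_zpowers j) k⟩
    have hord : orderOf j = 2 := orderOf_eq_prime (by rw [pow_two, hj2]) hj1
    have := Q.core _ hn (IsPGroup.of_card (n := 1) (by rw [Nat.card_zpowers, hord, pow_one]))
    exact hj1 (mem_bot.mp (this ▸ mem_zpowers j))
  rw [hju] at hsq hne ⊢
  revert hsq hne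
  rw [Matrix.eta_fin_two (H.φ u)]
  exact mat_square _ _ _ _

/-- Normalised data: `j` inverts both chosen generators. -/
structure Ctx (X : Type*) [Group X] [Finite X] where
  H : Heis X
  Q : Quot H
  j : X
  hπj : Q.π j = -1
  hj2 : j * j = 1
  hjx : j * H.x * j = H.x⁻¹
  hjy : j * H.y * j = H.y⁻¹

theorem Ctx.exists_ctx (H : Heis X) (Q : Quot H) : Nonempty (Ctx X) := by
  obtain ⟨j, hπ, hj2⟩ := Q.exists_involution
  have hφ : H.M j = -1 := Q.φ_invol hπ hj2
  have hjinv : j⁻¹ = j := inv_eq_of_mul_eq_one_right hj2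
  have hjz : j * H.z * j = H.z := by
    have := H.conj_z j
    rw [hjinv, hφ] at this
    simpa [Matrix.det_fin_two, pw_one] using this
  have hadj : ∀ r ∈ H.R, ∃ t, j * (r * pw H.z t) * j = (r * pw H.z t)⁻¹ := by
    intro r hr
    obtain ⟨a, b, c, rfl⟩ := H.W_surj hr
    obtain ⟨a', b', c', hc1⟩ := H.W_surj (H.conj_mem j hr)
    have hq := H.q_conj j hr
    rw [hc1, hφ, H.q_W, H.q_W] at hq
    rw [hjinv] at hc1
    have ha : a' = -a := by simpa using congrFun hq 0
    have hb : b' = -b := by simpa using congrFun hq 1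
    have hw : ∀ t, H.W a b c * pw H.z t = H.W a b (c + t) := fun t => by
      simp only [Heis.W]; rw [mul_assoc, ← pw_add (H.hexp _ H.zmem)]
    have hw' : ∀ t, H.W (-a) (-b) c' * pw H.z t = H.W (-a) (-b) (c' + t) := fun t => by
      simp only [Heis.W]; rw [mul_assoc, ← pw_add (H.hexp _ H.zmem)]
    have hzt : ∀ t, j * pw H.z t * j = pw H.z t := fun t => by
      calc j * pw H.z t * j = j * pw H.z t * j⁻¹ := by rw [hjinv]
        _ = pw (j * H.z * j⁻¹) t := Heis.conj_pw _ _ _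
        _ = pw H.z t := by rw [hjinv, hjz]
    refine ⟨c + c' + a * b, ?_⟩
    calc j * (H.W a b c * pw H.z (c + c' + a * b)) * j
        = (j * H.W a b c * j) * (j⁻¹ * pw H.z (c + c' + a * b) * j) := by group
      _ = H.W (-a) (-b) c' * pw H.z (c + c' + a * b) := by rw [hjinv, hzt, hc1, ha, hb]
      _ = _ := by
          rw [hw', hw, H.W_inv]
          congr 1
          have h3 : (3 : ZMod 3) = 0 := by decide
          linear_combination (c + c' + a * b) * h3
  obtain ⟨s, hs⟩ := hadj _ H.hx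
  obtain ⟨t, ht⟩ := hadj _ H.hy
  have hzs : ∀ u, pw H.z u ∈ H.R := fun u => H.R.pow_mem H.zmem _
  have hz' : H.z = (H.x * pw H.z s) * (H.y * pw H.z t) * (H.x * pw H.z s)⁻¹ * (H.y * pw H.z t)⁻¹ := by
    have e1 := (H.zpw_comm s (r := H.x) H.hx).eq
    have e2 := (H.zpw_comm s (r := H.y * pw H.z t) (H.R.mul_mem H.hy (hzs t))).eq
    have e3 := (H.zpw_comm t (r := H.x⁻¹) (H.R.inv_mem H.hx)).eq
    calc H.z = H.x * H.y * H.x⁻¹ * H.y⁻¹ := H.hz
      _ = H.x * (H.y * (pw H.z t * H.x⁻¹)) * (pw H.z t)⁻¹ * H.y⁻¹ := by rw [e3]; group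
      _ = H.x * (pw H.z s * (H.y * pw H.z t)) * (pw H.z s)⁻¹ * H.x⁻¹ * (pw H.z t)⁻¹ * H.y⁻¹ := by
          rw [e2]; group
      _ = _ := by group
  exact ⟨{ H := { R := H.R, x := H.x * pw H.z s, y := H.y * pw H.z t, z := H.z, normal := H.normal,
                  card := H.card, hexp := H.hexp, hx := H.R.mul_mem H.hx (hzs s),
                  hy := H.R.mul_mem H.hy (hzs t), hz := hz', hz1 := H.hz1, zcomm := H.zcomm }
           Q := { π := Q.π, surj := Q.surj, ker := Q.ker, core := Q.core }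
           j := j, hπj := hπ, hj2 := hj2, hjx := hs, hjy := ht }⟩

namespace Ctx

variable (C : Ctx X)

theorem jinv : C.j⁻¹ = C.j := inv_eq_of_mul_eq_one_right C.hj2

theorem φj : C.H.φ C.j = -1 := C.Q.φ_invol C.hπj C.hj2

theorem jz : C.j * C.H.z * C.j = C.H.z := by
  have := C.H.conj_z C.j
  rw [C.jinv, show C.H.M C.j = -1 from C.φj] at this
  simpa [Matrix.det_fin_two, pw_one] using this

theorem j_W (a b c : ZMod 3) : C.j * C.H.W a b c * C.j = C.H.W (-a) (-b) c := by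
  have e : ∀ r : X, C.j * r * C.j = C.j * r * C.j⁻¹ := fun r => by rw [C.jinv]
  have hz := C.jz
  have hx := C.hjx
  have hy := C.hjy
  rw [e] at hz hx hy ⊢
  simp only [Heis.W]
  rw [show C.j * (pw C.H.x a * pw C.H.y b * pw C.H.z c) * C.j⁻¹ =
      (C.j * pw C.H.x a * C.j⁻¹) * (C.j * pw C.H.y b * C.j⁻¹) * (C.j * pw C.H.z c * C.j⁻¹) by group,
    Heis.conj_pw, Heis.conj_pw, Heis.conj_pw, hx, hy, hz]
  simp only [pw, inv_pow]
  rw [← pw, ← pw, ← pw_neg (C.H.hexp _ C.H.hx)]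
  change _ * (pw C.H.y b)⁻¹ * _ = _
  rw [← pw_neg (C.H.hexp _ C.H.hy)]
  rfl

/-- The inverted representative of a coset of the centre. -/
def s (a b : ZMod 3) : X := C.H.W a b (a * b)

theorem eq_s {r : X} (hr : r ∈ C.H.R) (h : C.j * r * C.j = r⁻¹) :
    ∃ a b, r = C.s a b := by
  obtain ⟨a, b, c, rfl⟩ := C.H.W_surj hr
  rw [C.j_W, C.H.W_inv] at h
  obtain ⟨-, -, h3⟩ := C.H.W_inj h
  refine ⟨a, b, ?_⟩
  have h0 : (3 : ZMod 3) = 0 := by decide
  rw [s, show c = a * b by linear_combination -h3 + (c : ZMod 3) * h0]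

theorem fixed_mem {r : X} (hr : r ∈ C.H.R) (h : C.j * r * C.j = r) :
    ∃ c, r = C.H.W 0 0 c := by
  obtain ⟨a, b, c, rfl⟩ := C.H.W_surj hr
  rw [C.j_W] at h
  obtain ⟨h1, h2, -⟩ := C.H.W_inj h
  have : ∀ t : ZMod 3, -t = t → t = 0 := by decide
  exact ⟨c, by rw [this _ h1, this _ h2]⟩

theorem φ_det (g : X) : (C.H.φ g).det = 1 := by
  obtain ⟨B, D, hBD⟩ := sl_squares (C.Q.π g)
  obtain ⟨b, rfl⟩ := C.Q.surj B
  obtain ⟨d, rfl⟩ := C.Q.surj D
  have hm : g * (b ^ 2 * d ^ 2)⁻¹ ∈ C.H.R := (C.Q.ker _).mp (by simp [← hBD])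
  have h1 : C.H.φ g = C.H.φ b ^ 2 * C.H.φ d ^ 2 := by
    calc C.H.φ g = C.H.φ (g * (b ^ 2 * d ^ 2)⁻¹) * C.H.φ (b ^ 2 * d ^ 2) := by
          rw [← map_mul, inv_mul_cancel_right]
      _ = _ := by rw [C.H.φ_of_mem hm, one_mul, map_mul, map_pow, map_pow]
  have hne : ∀ u : X, (C.H.φ u).det ≠ 0 := fun u h => by
    have : (C.H.φ u).det * (C.H.φ u⁻¹).det = 1 := by
      rw [← det_mul, ← map_mul, mul_inv_cancel, map_one, det_one]
    rw [h, zero_mul] at this
    exact one_ne_zero this.symm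
  rw [h1, det_mul, det_pow, det_pow]
  have : ∀ t : ZMod 3, t ≠ 0 → t ^ 2 = 1 := by decide
  rw [this _ (hne b), this _ (hne d), one_mul]

theorem z_central (g : X) : g * C.H.z * g⁻¹ = C.H.z := by
  rw [C.H.conj_z, show (C.H.M g).det = 1 from C.φ_det g, pw_one]

theorem φ_ker {g : X} (h : C.H.φ g = 1) : g ∈ C.H.R := by
  rw [← C.Q.ker]
  by_contra hne
  have hj : ∀ u, C.Q.π u = -1 → C.H.φ u ≠ 1 := fun u hu h1 => by
    have hm : u * C.j ∈ C.H.R := (C.Q.ker _).mp (by rw [map_mul, hu, C.hπj]; decide +kernel)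
    have := C.H.φ_of_mem hm
    rw [map_mul, h1, one_mul, C.φj] at this
    exact absurd this (by decide +kernel)
  by_cases hneg : C.Q.π g = -1
  · exact hj g hneg h
  rcases sl_commutator_sq _ hne hneg with h2 | h2 | ⟨A, hA⟩
  · exact hj (g ^ 2) (by rw [map_pow, h2]) (by rw [map_pow, h, one_pow])
  · exact hj (g ^ 3) (by rw [map_pow, h2]) (by rw [map_pow, h, one_pow])
  · obtain ⟨u, rfl⟩ := C.Q.surj A
    refine hj ((g * u * g⁻¹ * u⁻¹) ^ 2) (by simpa using hA) ?_
    have hg : C.H.φ g⁻¹ = 1 := by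
      have : C.H.φ g * C.H.φ g⁻¹ = 1 := by rw [← map_mul, mul_inv_cancel, map_one]
      rwa [h, one_mul] at this
    rw [map_pow, map_mul, map_mul, map_mul, h, hg, one_mul, mul_one, ← map_mul, mul_inv_cancel,
      map_one, one_pow]

/-- `φ` as a map into `SL(2,3)`. -/
noncomputable def ψ : X →* SL23 :=
  { toFun := fun g => ⟨C.H.φ g, C.φ_det g⟩
    map_one' := Subtype.ext (map_one C.H.φ)
    map_mul' := fun a b => Subtype.ext (map_mul C.H.φ a b) }

theorem ψ_ker {g : X} : C.ψ g = 1 ↔ g ∈ C.H.R :=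
  ⟨fun h => C.φ_ker (congrArg Subtype.val h), fun h => Subtype.ext (C.H.φ_of_mem h)⟩

theorem ψ_surj : Function.Surjective C.ψ := by
  classical
  haveI := Fintype.ofFinite X
  have h1 : C.ψ.ker = C.Q.π.ker := by
    ext g
    rw [MonoidHom.mem_ker, MonoidHom.mem_ker, C.ψ_ker, C.Q.ker]
  have h2 : Nat.card C.ψ.range = Nat.card SL23 := by
    rw [← Subgroup.index_ker, h1, Subgroup.index_ker, MonoidHom.range_eq_top.mpr C.Q.surj,
      Subgroup.card_top]
  exact MonoidHom.range_eq_top.mp (Subgroup.eq_top_of_card_eq _ h2)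

theorem exists_cent (g : X) : ∃ r ∈ C.H.R, C.j * (r * g) * C.j = r * g := by
  have hr : g * C.j * g⁻¹ * C.j ∈ C.H.R := (C.Q.ker _).mp (by
    simp only [map_mul, map_inv, C.hπj]
    generalize C.Q.π g = A
    revert A; decide +kernel)
  set r := g * C.j * g⁻¹ * C.j with hr0
  have hinv : C.j * r * C.j = r⁻¹ := by
    rw [hr0]; simp only [_root_.mul_inv_rev, inv_inv, C.jinv]
    simp only [mul_assoc, C.hj2, mul_one]
  refine ⟨r, hr, ?_⟩
  have hg : g * C.j * g⁻¹ = r * C.j := by rw [hr0, mul_assoc _ C.j C.j, C.hj2, mul_one]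
  have h3 : r * r * r = 1 := by
    have := C.H.hexp r hr
    rwa [pow_succ, pow_two] at this
  have hrj : C.j * r = r⁻¹ * C.j := by
    rw [← hinv, mul_assoc (C.j * r) C.j C.j, C.hj2, mul_one]
  have hconj : (r * g) * C.j * (r * g)⁻¹ = C.j := by
    calc (r * g) * C.j * (r * g)⁻¹ = r * (g * C.j * g⁻¹) * r⁻¹ := by group
      _ = r * r * (C.j * r⁻¹) := by rw [hg]; group
      _ = r * r * (r * C.j) := by
          congr 1
          calc C.j * r⁻¹ = C.j * (C.j * r * C.j) := by rw [hinv]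
            _ = r * C.j := by rw [← mul_assoc, ← mul_assoc, C.hj2, one_mul]
      _ = C.j := by rw [← mul_assoc, h3, one_mul]
  have hsw : (r * g) * C.j = C.j * (r * g) := mul_inv_eq_iff_eq_mul.mp hconj
  rw [mul_assoc, hsw, ← mul_assoc, C.hj2, one_mul]

/-- The centralizer of `j`. -/
def cent : Subgroup X := Subgroup.centralizer {C.j}

theorem mem_cent {g : X} : g ∈ C.cent ↔ C.j * g * C.j = g := by
  rw [cent, Subgroup.mem_centralizer_singleton_iff]
  constructor
  · intro h; rw [← h, mul_assoc, C.hj2, mul_one]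
  · intro h
    calc g * C.j = (C.j * g * C.j) * C.j := by rw [h]
      _ = C.j * g := by rw [mul_assoc, C.hj2, mul_one]

theorem cent_lift (A : SL23) : ∃ c ∈ C.cent, C.ψ c = A := by
  obtain ⟨g, rfl⟩ := C.ψ_surj A
  obtain ⟨r, hr, h⟩ := C.exists_cent g
  exact ⟨r * g, C.mem_cent.mpr h, by rw [map_mul, C.ψ_ker.mpr hr, one_mul]⟩

theorem cent_ker {c : X} (hc : c ∈ C.cent) (h : C.ψ c = 1) : ∃ t, c = pw C.H.z t := by
  obtain ⟨t, ht⟩ := C.fixed_mem (C.ψ_ker.mp h) (C.mem_cent.mp hc)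
  exact ⟨t, by rw [ht]; simp [Heis.W, pw_zero]⟩

theorem pw_z_comm (t : ZMod 3) (g : X) : Commute (pw C.H.z t) g :=
  (Commute.pow_left (show Commute C.H.z g from (mul_inv_eq_iff_eq_mul.mp (C.z_central g)).symm) _)

theorem conj_s {k : X} (hk : k ∈ C.cent) (a b : ZMod 3) :
    k * C.s a b * k⁻¹ = C.s ((C.H.φ k *ᵥ ![a, b]) 0) ((C.H.φ k *ᵥ ![a, b]) 1) := by
  have hr : C.s a b ∈ C.H.R := C.H.W_mem _ _ _
  have hkj : k * C.j = C.j * k := Subgroup.mem_centralizer_singleton_iff.mp hk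
  have hs : C.j * C.s a b * C.j = (C.s a b)⁻¹ := by
    rw [s, C.j_W, C.H.W_inv]
    congr 1
    have h0 : (3 : ZMod 3) = 0 := by decide
    linear_combination (a * b) * h0
  have hinv : C.j * (k * C.s a b * k⁻¹) * C.j = (k * C.s a b * k⁻¹)⁻¹ := by
    have hkj' : C.j * k⁻¹ = k⁻¹ * C.j := by
      calc C.j * k⁻¹ = k⁻¹ * (k * C.j) * k⁻¹ := by group
        _ = k⁻¹ * C.j := by rw [hkj]; group
    calc C.j * (k * C.s a b * k⁻¹) * C.j = (C.j * k) * C.s a b * (k⁻¹ * C.j) := by group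
      _ = (k * C.j) * C.s a b * (C.j * k⁻¹) := by rw [hkj, hkj']
      _ = k * (C.j * C.s a b * C.j) * k⁻¹ := by group
      _ = _ := by rw [hs]; group
  obtain ⟨a', b', he⟩ := C.eq_s (C.H.conj_mem k hr) hinv
  have hq := C.H.q_conj k hr
  rw [he, s, s, C.H.q_W, C.H.q_W] at hq
  rw [he, show C.H.φ k = C.H.M k from rfl, ← hq]
  simp

theorem exists_order_three (hE : ∃ E : Subgroup X, IsMulCommutative E ∧ (∀ a ∈ E, a ^ 3 = 1) ∧
    Nat.card E = 27) : ∃ t ∈ C.cent, t ^ 3 = 1 ∧ C.ψ t ≠ 1 := by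
  obtain ⟨E, hEc, hE3, hEcard⟩ := hE
  have comm : ∀ a ∈ E, ∀ b ∈ E, a * b = b * a := fun a ha b hb =>
    congrArg Subtype.val (hEc.is_comm.comm (⟨a, ha⟩ : E) ⟨b, hb⟩)
  have hne : ¬ E ≤ C.H.R := by
    intro hle
    have hEq : E = C.H.R := Subgroup.eq_of_le_of_card_ge hle (by rw [hEcard, C.H.card])
    apply C.H.hz1
    rw [C.H.hz, comm C.H.x (hEq.ge C.H.hx) C.H.y (hEq.ge C.H.hy)]
    group
  obtain ⟨e, heE, heR⟩ := SetLike.not_le_iff_exists.mp hne
  -- a non-central element of `E ∩ R`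
  have hw : ∃ w ∈ E, w ∈ C.H.R ∧ C.H.q w ≠ 0 := by
    by_contra hcon
    push_neg at hcon
    let f : E →* SL23 := C.ψ.comp E.subtype
    have hker : Nat.card f.ker ≤ 3 := by
      have : Function.Surjective (fun t : ZMod 3 => pw C.H.z t) → True := fun _ => trivial
      have hmem : ∀ w : f.ker, ∃ t, ((w : E) : X) = pw C.H.z t := fun w => by
        have hwR : ((w : E) : X) ∈ C.H.R := C.ψ_ker.mp w.2
        have h0 := hcon _ (w : E).2 hwR
        obtain ⟨a, b, c, hc⟩ := C.H.W_surj hwR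
        rw [hc, C.H.q_W] at h0
        have ha : a = 0 := congrFun h0 0
        have hb : b = 0 := congrFun h0 1
        exact ⟨c, by rw [hc, ha, hb]; simp [Heis.W, pw_zero]⟩
      choose τ hτ using hmem
      have : Function.Injective τ := fun u v huv =>
        Subtype.ext (Subtype.ext (by rw [hτ u, hτ v, huv]))
      simpa using Nat.card_le_card_of_injective τ this
    have hrange : IsPGroup 3 f.range := fun u => by
      obtain ⟨w, hw⟩ := u.2
      refine ⟨1, Subtype.ext ?_⟩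
      rw [pow_one, SubgroupClass.coe_pow, ← hw, ← map_pow]
      have : w ^ 3 = 1 := Subtype.ext (hE3 _ w.2)
      rw [this, map_one]; rfl
    obtain ⟨n, hn⟩ := hrange.exists_card_eq
    have hdvd : 3 ^ n ∣ 24 := by
      rw [← hn]
      have := Subgroup.card_subgroup_dvd_card f.range
      rwa [Nat.card_eq_fintype_card (α := SL23), card_sl] at this
    have hn1 : n ≤ 1 := by
      by_contra h
      have : 3 ^ 2 ∣ 24 := (pow_dvd_pow 3 (by omega)).trans hdvd
      norm_num at this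
    have hmul := Subgroup.card_mul_index f.ker
    rw [Subgroup.index_ker, hn, hEcard] at hmul
    have : 3 ^ n ≤ 3 := by interval_cases n <;> norm_num
    nlinarith
  obtain ⟨w, hwE, hwR, hwq⟩ := hw
  obtain ⟨r, hr, hcj⟩ := C.exists_cent e
  refine ⟨r * e, C.mem_cent.mpr hcj, ?_, ?_⟩
  swap
  · rw [map_mul, C.ψ_ker.mpr hr, one_mul, Ne, C.ψ_ker]; exact heR
  obtain ⟨a, b, c, hw0⟩ := C.H.W_surj hwR
  rw [hw0, C.H.q_W] at hwq
  have hcm : r * e ∈ C.cent := C.mem_cent.mpr hcj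
  have hφ : C.H.φ (r * e) *ᵥ ![a, b] = ![a, b] := by
    have h1 := C.H.q_conj e hwR
    rw [show e * w * e⁻¹ = w by rw [comm _ heE _ hwE, mul_inv_cancel_right], hw0, C.H.q_W] at h1
    rw [map_mul, C.H.φ_of_mem hr, one_mul]
    exact h1.symm
  -- the product fixes `w`, hence so does `r`
  have hwc : Commute (r * e) w := by
    have h2 := C.conj_s hcm a b
    rw [hφ] at h2
    have hs : Commute (r * e) (C.s a b) := mul_inv_eq_iff_eq_mul.mp (by simpa using h2)
    have hwd : w = C.s a b * pw C.H.z (c - a * b) := by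
      rw [hw0, s]; simp only [Heis.W]
      rw [mul_assoc _ (pw C.H.z _) (pw C.H.z _), ← pw_add (C.H.hexp _ C.H.zmem), add_sub_cancel]
    rw [hwd]
    exact hs.mul_right (C.pw_z_comm _ _).symm
  have hrw : Commute r w := by
    have := hwc.mul_left ((show Commute e w from comm _ heE _ hwE).inv_left)
    simpa [mul_assoc] using this
  obtain ⟨a', b', c', hr0⟩ := C.H.W_surj hr
  rw [hw0, hr0] at hrw
  have hdet := hrw.eq
  rw [C.H.W_mul, C.H.W_mul] at hdet
  obtain ⟨-, -, h3⟩ := C.H.W_inj hdet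
  have hpar : C.H.φ (r * e) *ᵥ ![a', b'] = ![a', b'] := by
    have hlam : ∃ l : ZMod 3, ![a', b'] = l • ![a, b] := by
      have hd : a * b' = a' * b := by linear_combination -h3
      by_cases ha : a = 0
      · have hb : b ≠ 0 := fun hb => hwq (by rw [ha, hb]; ext i; fin_cases i <;> rfl)
        refine ⟨b' * b⁻¹, ?_⟩
        have ha' : a' = 0 := by
          rw [ha, zero_mul] at hd
          exact (mul_eq_zero.mp hd.symm).resolve_right hb
        ext i; fin_cases i <;> simp [ha, ha', mul_assoc, inv_mul_cancel₀ hb]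
      · refine ⟨a' * a⁻¹, ?_⟩
        ext i; fin_cases i
        · simp [mul_assoc, inv_mul_cancel₀ ha]
        · simp; field_simp; linear_combination hd
    obtain ⟨l, hl⟩ := hlam
    rw [hl, mulVec_smul, hφ]
  have hrc : Commute (r * e) r := by
    have h2 := C.conj_s hcm a' b'
    rw [hpar] at h2
    have hs : Commute (r * e) (C.s a' b') := mul_inv_eq_iff_eq_mul.mp (by simpa using h2)
    have hrd : r = C.s a' b' * pw C.H.z (c' - a' * b') := by
      rw [hr0, s]; simp only [Heis.W]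
      rw [mul_assoc _ (pw C.H.z _) (pw C.H.z _), ← pw_add (C.H.hexp _ C.H.zmem), add_sub_cancel]
    have := hs.mul_right (C.pw_z_comm (c' - a' * b') (r * e)).symm
    rwa [← hrd] at this
  have hre : Commute r e := by
    have := (hrc.symm).eq
    exact mul_left_cancel (a := r) (by rw [this, mul_assoc])
  rw [hre.mul_pow, C.H.hexp r hr, hE3 e heE, one_mul]

theorem exists_complement (hE : ∃ E : Subgroup X, IsMulCommutative E ∧ (∀ a ∈ E, a ^ 3 = 1) ∧
    Nat.card E = 27) : ∃ K : Subgroup X, K ≤ C.cent ∧ ∀ A : SL23, ∃! k, k ∈ K ∧ C.ψ k = A := by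
  obtain ⟨t, ht, ht3, htne⟩ := C.exists_order_three hE
  obtain ⟨P⟩ := (inferInstance : Nonempty (Sylow 2 C.cent))
  let Pm : Subgroup X := (P : Subgroup C.cent).map C.cent.subtype
  have hPc : Pm ≤ C.cent := Subgroup.map_subtype_le _
  have hP2 : IsPGroup 2 Pm := P.2.map _
  have hkerP : ∀ u ∈ Pm, C.ψ u = 1 → u = 1 := by
    intro u hu h1
    obtain ⟨d, hd⟩ := C.cent_ker (hPc hu) h1
    obtain ⟨n, hn⟩ := hP2 ⟨u, hu⟩
    have hn' : u ^ (2 ^ n) = 1 := congrArg Subtype.val hn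
    have h3 : u ^ 3 = 1 := by rw [hd]; exact C.H.hexp _ (C.H.R.pow_mem C.H.zmem _)
    have : orderOf u ∣ Nat.gcd (2 ^ n) 3 :=
      Nat.dvd_gcd (orderOf_dvd_of_pow_eq_one hn') (orderOf_dvd_of_pow_eq_one h3)
    rw [Nat.Coprime.gcd_eq_one (Nat.Coprime.pow_left n (by norm_num))] at this
    exact orderOf_eq_one_iff.mp (Nat.dvd_one.mp this)
  -- a lift of an element of order dividing four lies in `P`, up to the centre
  have hfour : ∀ u ∈ C.cent, C.ψ u ^ 4 = 1 → ∃ d, u * pw C.H.z d ∈ Pm := by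
    let f : C.cent →* SL23 := C.ψ.comp C.cent.subtype
    have hf : Function.Surjective f := fun A => by
      obtain ⟨c, hc, rfl⟩ := C.cent_lift A; exact ⟨⟨c, hc⟩, rfl⟩
    let P' := P.mapSurjective hf
    intro u hu hu4
    have huP : C.ψ u ∈ (P' : Subgroup SL23) := by
      have hp : IsPGroup 2 (Subgroup.zpowers (C.ψ u)) := by
        intro v
        refine ⟨2, Subtype.ext ?_⟩
        obtain ⟨k, hk⟩ := v.2
        rw [SubgroupClass.coe_pow, ← hk]
        change (C.ψ u ^ k) ^ (4 : ℕ) = 1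
        rw [← zpow_natCast, ← _root_.zpow_mul, mul_comm, _root_.zpow_mul, zpow_natCast, hu4, _root_.one_zpow]
      obtain ⟨S, hS⟩ := hp.exists_le_sylow
      have hall : ∀ T : Sylow 2 SL23, ∀ x ∈ (T : Subgroup SL23), x ^ 4 = 1 := by
        intro T x hx
        obtain ⟨n, hn⟩ := T.2 ⟨x, hx⟩
        have hn' : x ^ (2 ^ n) = 1 := congrArg Subtype.val hn
        have h24 : x ^ Nat.card SL23 = 1 := pow_card_eq_one'
        rw [Nat.card_eq_fintype_card, card_sl] at h24
        revert hn' h24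
        have : ∀ x : SL23, x ^ 24 = 1 → x ^ 4 = 1 ∨ ∃ y, y = x ^ 8 ∧ y ≠ 1 ∧ y ^ 3 = 1 := by
          decide +kernel
        intro hn' h24
        rcases this x h24 with h | ⟨y, rfl, hy, hy3⟩
        · exact h
        · exfalso
          apply hy
          have hc : Nat.Coprime (2 ^ n) 3 := Nat.Coprime.pow_left n (by norm_num)
          have h1 : (x ^ 8) ^ (2 ^ n) = 1 := by rw [← pow_mul, mul_comm, pow_mul, hn', one_pow]
          have := pow_gcd_eq_one.mpr ⟨h1, hy3⟩
          rwa [hc.gcd_eq_one, pow_one] at this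
      -- the elements killed by four form a 2-group containing every Sylow subgroup
      let Q4 : Subgroup SL23 :=
        { carrier := {x | x ^ 4 = 1}
          one_mem' := one_pow 4
          mul_mem' := fun {a b} => sl_four_closed a b
          inv_mem' := fun {a} (ha : a ^ 4 = 1) => by
            show a⁻¹ ^ 4 = 1
            rw [inv_pow, ha, inv_one] }
      have hQ4 : IsPGroup 2 Q4 := fun v => ⟨2, Subtype.ext v.2⟩
      have hle : (P' : Subgroup SL23) ≤ Q4 := fun x hx => hall P' x hx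
      rw [← P'.3 hQ4 hle]
      exact hu4
    obtain ⟨v, hv, hvu⟩ := huP
    have hv' : (v : X) ∈ Pm := ⟨v, hv, rfl⟩
    obtain ⟨d, hd⟩ := C.cent_ker (c := u⁻¹ * v) (mul_mem (inv_mem hu) v.2)
      (by rw [map_mul, map_inv, inv_mul_eq_one]; exact hvu.symm)
    exact ⟨d, by rw [← hd, mul_inv_cancel_left]; exact hv'⟩
  let K : Subgroup X := Pm ⊔ Subgroup.zpowers t
  have htn : Subgroup.zpowers t ≤ Subgroup.normalizer (Pm : Set X) := by
    rw [Subgroup.zpowers_le]
    have key : ∀ g ∈ C.cent, ∀ u ∈ Pm, g * u * g⁻¹ ∈ Pm := by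
      intro g hg u hu
      have h4 : C.ψ (g * u * g⁻¹) ^ 4 = 1 := by
        rw [map_mul, map_mul, map_inv, conj_pow]
        obtain ⟨n, hn⟩ := hP2 ⟨u, hu⟩
        have hn' : C.ψ u ^ (2 ^ n) = 1 := by
          rw [← map_pow, show u ^ 2 ^ n = 1 from congrArg Subtype.val hn, map_one]
        have : C.ψ u ^ 4 = 1 := by
          have hsl : ∀ x : SL23, x ^ 4 = 1 ∨ ((x ^ 8) ^ 3 = 1 ∧ x ^ 8 ≠ 1) := by decide +kernel
          rcases hsl (C.ψ u) with h | ⟨h3, hne⟩
          · exact h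
          · exfalso
            apply hne
            have h1 : (C.ψ u ^ 8) ^ (2 ^ n) = 1 := by rw [← pow_mul, mul_comm, pow_mul, hn', one_pow]
            have := pow_gcd_eq_one.mpr ⟨h1, h3⟩
            rwa [(Nat.Coprime.pow_left n (by norm_num : Nat.Coprime 2 3)).gcd_eq_one, pow_one] at this
        rw [this]; group
      obtain ⟨d, hd⟩ := hfour _ (mul_mem (mul_mem hg (hPc hu)) (inv_mem hg)) h4
      obtain ⟨n, hn⟩ := hP2 ⟨_, hd⟩
      obtain ⟨m, hm⟩ := hP2 ⟨u, hu⟩
      have hn' : (g * u * g⁻¹ * pw C.H.z d) ^ (2 ^ n) = 1 := congrArg Subtype.val hn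
      have hm' : u ^ (2 ^ m) = 1 := congrArg Subtype.val hm
      have hz : pw C.H.z d ^ (2 ^ (n + m)) = 1 := by
        have e1 : (g * u * g⁻¹ * pw C.H.z d) ^ (2 ^ (n + m)) = 1 := by
          rw [pow_add, pow_mul, hn', one_pow]
        rw [(C.pw_z_comm d _).symm.mul_pow, conj_pow, pow_add, mul_comm (2 ^ n) (2 ^ m), pow_mul u,
          hm', one_pow, mul_one, mul_inv_cancel, one_mul] at e1
        rwa [pow_add, mul_comm]
      have hz3 : pw C.H.z d ^ 3 = 1 := C.H.hexp _ (C.H.R.pow_mem C.H.zmem _)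
      have := pow_gcd_eq_one.mpr ⟨hz, hz3⟩
      rw [(Nat.Coprime.pow_left (n + m) (by norm_num : Nat.Coprime 2 3)).gcd_eq_one, pow_one] at this
      rwa [this, mul_one] at hd
    rw [Subgroup.mem_normalizer_iff]
    refine fun u => ⟨key t ht u, fun h => ?_⟩
    have := key t⁻¹ (inv_mem ht) _ h
    simpa [mul_assoc] using this
  have hmemK : ∀ k ∈ K, ∃ u ∈ Pm, ∃ i : ℕ, k = u * t ^ i := by
    intro k hk
    rw [← SetLike.mem_coe, Subgroup.coe_mul_of_right_le_normalizer_left Pm (Subgroup.zpowers t) htn] at hk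
    obtain ⟨u, hu, v, hv, rfl⟩ := hk
    obtain ⟨i, rfl⟩ := (isOfFinOrder_of_finite t).mem_powers_iff_mem_zpowers.mpr hv
    exact ⟨u, hu, i, rfl⟩
  refine ⟨K, sup_le hPc ((Subgroup.zpowers_le).mpr ht), fun A => ?_⟩
  have hψt3 : C.ψ t ^ 3 = 1 := by rw [← map_pow, ht3, map_one]
  have hex : ∃ k, k ∈ K ∧ C.ψ k = A := by
    have lift : ∀ B : SL23, B ^ 4 = 1 → ∃ k ∈ K, C.ψ k = B := fun B hB => by
      obtain ⟨c, hc, rfl⟩ := C.cent_lift B
      obtain ⟨d, hd⟩ := hfour c hc hB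
      exact ⟨_, Subgroup.mem_sup_left hd, by
        rw [map_mul, C.ψ_ker.mpr (show pw C.H.z d ∈ C.H.R from C.H.R.pow_mem C.H.zmem _), mul_one]⟩
    have htK : t ∈ K := Subgroup.mem_sup_right (Subgroup.mem_zpowers t)
    rcases sl_coset (C.ψ t) A htne hψt3 with h | h | h
    · exact lift A h
    · obtain ⟨k, hk, hkA⟩ := lift _ h
      exact ⟨k * t⁻¹, mul_mem hk (inv_mem htK), by rw [map_mul, map_inv, hkA, mul_inv_cancel_right]⟩
    · obtain ⟨k, hk, hkA⟩ := lift _ h
      exact ⟨k * t⁻¹ * t⁻¹, mul_mem (mul_mem hk (inv_mem htK)) (inv_mem htK), by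
        rw [map_mul, map_mul, map_inv, hkA, mul_inv_cancel_right, mul_inv_cancel_right]⟩
  obtain ⟨k, hk, hkA⟩ := hex
  refine ⟨k, ⟨hk, hkA⟩, fun k' ⟨hk', hk'A⟩ => ?_⟩
  -- injectivity on `K`
  obtain ⟨u, hu, i, hd⟩ := hmemK (k' * k⁻¹) (mul_mem hk' (inv_mem hk))
  have h1 : C.ψ u * C.ψ t ^ i = 1 := by
    rw [← map_pow, ← map_mul, ← hd, map_mul, map_inv, hk'A, hkA, mul_inv_cancel]
  obtain ⟨n, hn⟩ := hP2 ⟨u, hu⟩
  have hn' : C.ψ u ^ (2 ^ n) = 1 := by
    rw [← map_pow, show u ^ 2 ^ n = 1 from congrArg Subtype.val hn, map_one]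
  have h2 : (C.ψ t ^ i) ^ (2 ^ n) = 1 := by
    rw [eq_inv_of_mul_eq_one_right h1, inv_pow, hn', inv_one]
  have h3 : (C.ψ t ^ i) ^ 3 = 1 := by rw [← pow_mul, mul_comm, pow_mul, hψt3, one_pow]
  have h4 := pow_gcd_eq_one.mpr ⟨h2, h3⟩
  rw [(Nat.Coprime.pow_left n (by norm_num : Nat.Coprime 2 3)).gcd_eq_one, pow_one] at h4
  have hti : t ^ i = 1 := by
    have hd3 : 3 ∣ i := by
      have := orderOf_dvd_of_pow_eq_one h4
      rwa [orderOf_eq_prime (p := 3) hψt3 htne] at this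
    obtain ⟨l, rfl⟩ := hd3
    rw [pow_mul, ht3, one_pow]
  rw [h4, mul_one] at h1
  rw [hti, mul_one, hkerP u hu h1] at hd
  exact mul_inv_eq_one.mp hd

end Ctx

end Cfsg.Agent.Recognition.HeisSL23
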