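import Cfsg.Prelude.Def_Transfer
import Cfsg.Prelude.Def_Solvable
import Cfsg.Agent.Lib.CharP.Sylow

/-!
The structure of a group of shape `3^{1+2}.SL(2,3)` with trivial `2`-core: it is a split extension,
and the complement centralizes an involution inverting the Heisenberg group modulo its centre.
-/

set_option linter.all false
set_option autoImplicit false

namespace Cfsg.Agent.Recognition.HeisSL23

open Matrix

/-- Two by two determinant-one facts over the field with three elements. -/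
theorem sl_commutator_sq : ∀ A : Matrix.SpecialLinearGroup (Fin 2) (ZMod 3), A ≠ 1 → A ≠ -1 →
    A ^ 2 = -1 ∨ A ^ 3 = -1 ∨ ∃ g, (A * g * A⁻¹ * g⁻¹) ^ 2 = -1 := by decide +kernel

theorem sl_squares : ∀ A : Matrix.SpecialLinearGroup (Fin 2) (ZMod 3),
    ∃ B C, B ^ 2 * C ^ 2 = A := by decide +kernel

theorem sl_coset : ∀ T A : Matrix.SpecialLinearGroup (Fin 2) (ZMod 3), T ≠ 1 → T ^ 3 = 1 →
    A ^ 4 = 1 ∨ (A * T) ^ 4 = 1 ∨ (A * T * T) ^ 4 = 1 := by decide +kernel

theorem sl_four_closed : ∀ A B : Matrix.SpecialLinearGroup (Fin 2) (ZMod 3), A ^ 4 = 1 →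
    B ^ 4 = 1 → (A * B) ^ 4 = 1 := by decide +kernel

theorem card_sl : Fintype.card (Matrix.SpecialLinearGroup (Fin 2) (ZMod 3)) = 24 := by decide +kernel

theorem mat_square : ∀ a b c d : ZMod 3, ((!![a, b; c, d] : Matrix (Fin 2) (Fin 2) (ZMod 3)) ^ 2) ^ 2 = 1 →
    (!![a, b; c, d] : Matrix (Fin 2) (Fin 2) (ZMod 3)) ^ 2 ≠ 1 →
    (!![a, b; c, d] : Matrix (Fin 2) (Fin 2) (ZMod 3)) ^ 2 = -1 := by decide +kernel

variable {X : Type*} [Group X]

/-- `g ^ a` for an exponent modulo three. -/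
def pw (g : X) (a : ZMod 3) : X := g ^ a.val

theorem pw_eq {g : X} (h : g ^ 3 = 1) (n : ℕ) : pw g (n : ZMod 3) = g ^ n := by
  rw [pw, ZMod.val_natCast]
  exact (pow_eq_pow_mod n h).symm

theorem pw_add {g : X} (h : g ^ 3 = 1) (a b : ZMod 3) : pw g (a + b) = pw g a * pw g b := by
  obtain ⟨m, rfl⟩ := ZMod.natCast_zmod_surjective a
  obtain ⟨n, rfl⟩ := ZMod.natCast_zmod_surjective b
  rw [← Nat.cast_add, pw_eq h, pw_eq h, pw_eq h, pow_add]

theorem pw_zero (g : X) : pw g 0 = 1 := by simp [pw]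

theorem pw_one (g : X) : pw g 1 = g := by simp [pw, ZMod.val_one]

theorem pw_neg {g : X} (h : g ^ 3 = 1) (a : ZMod 3) : pw g (-a) = (pw g a)⁻¹ :=
  eq_inv_of_mul_eq_one_left (by rw [← pw_add h, neg_add_cancel, pw_zero])

theorem pow_mul_pow {x y z : X} (h : x * y = y * x * z) (hx : Commute z x) (hy : Commute z y)
    (n m : ℕ) : x ^ n * y ^ m = y ^ m * x ^ n * z ^ (n * m) := by
  have h1 : ∀ m : ℕ, x * y ^ m = y ^ m * x * z ^ m := by
    intro m
    induction m with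
    | zero => simp
    | succ m ih =>
      rw [pow_succ, ← mul_assoc, ih, mul_assoc (y ^ m * x), (hy.pow_left m).eq, ← mul_assoc,
        mul_assoc (y ^ m) x y, h, pow_succ' z]
      simp only [mul_assoc]
  induction n with
  | zero => simp
  | succ n ih =>
    rw [pow_succ', mul_assoc, ih, ← mul_assoc, ← mul_assoc, h1, mul_assoc (y ^ m * x),
      ((hx.pow_left m).pow_right n).eq, Nat.succ_mul, add_comm, pow_add]
    simp only [mul_assoc]

/-- Data describing the normal Heisenberg subgroup. -/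
structure Heis (X : Type*) [Group X] [Finite X] where
  R : Subgroup X
  x : X
  y : X
  z : X
  normal : R.Normal
  card : Nat.card R = 27
  hexp : ∀ r ∈ R, r ^ 3 = 1
  hx : x ∈ R
  hy : y ∈ R
  hz : z = x * y * x⁻¹ * y⁻¹
  hz1 : z ≠ 1
  zcomm : ∀ r ∈ R, Commute z r

namespace Heis

variable [Finite X] (H : Heis X)

theorem zmem : H.z ∈ H.R := by
  rw [H.hz]
  exact H.R.mul_mem (H.R.mul_mem (H.R.mul_mem H.hx H.hy) (H.R.inv_mem H.hx)) (H.R.inv_mem H.hy)

/-- Coordinates on the Heisenberg group. -/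
def W (a b c : ZMod 3) : X := pw H.x a * pw H.y b * pw H.z c

theorem W_mem (a b c : ZMod 3) : H.W a b c ∈ H.R :=
  H.R.mul_mem (H.R.mul_mem (H.R.pow_mem H.hx _) (H.R.pow_mem H.hy _)) (H.R.pow_mem H.zmem _)

theorem zpw_comm (c : ZMod 3) {r : X} (hr : r ∈ H.R) : Commute (pw H.z c) r :=
  (H.zcomm r hr).pow_left _

theorem y_x (m n : ZMod 3) : pw H.y m * pw H.x n = pw H.x n * pw H.y m * pw H.z (-(n * m)) := by
  have h : H.x * H.y = H.y * H.x * H.z := by
    rw [← (H.zcomm (H.y * H.x) (H.R.mul_mem H.hy H.hx)).eq, H.hz]; group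
  have h1 := pow_mul_pow h (H.zcomm _ H.hx) (H.zcomm _ H.hy) n.val m.val
  have h2 : H.z ^ (n.val * m.val) = pw H.z (n * m) := by
    rw [← pw_eq (H.hexp _ H.zmem), Nat.cast_mul, ZMod.natCast_zmod_val, ZMod.natCast_zmod_val]
  rw [pw_neg (H.hexp _ H.zmem), ← h2, eq_mul_inv_iff_mul_eq]
  exact h1.symm

theorem W_mul (a b c a' b' c' : ZMod 3) :
    H.W a b c * H.W a' b' c' = H.W (a + a') (b + b') (c + c' - a' * b) := by
  have hx := H.R.pow_mem H.hx a'.val
  have hy := H.R.pow_mem H.hy b'.val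
  have hxy := H.R.mul_mem hx hy
  simp only [W]
  calc pw H.x a * pw H.y b * pw H.z c * (pw H.x a' * pw H.y b' * pw H.z c')
      = pw H.x a * pw H.y b * (pw H.x a' * pw H.y b') * (pw H.z c * pw H.z c') := by
        rw [mul_assoc (pw H.x a * pw H.y b), ← mul_assoc (pw H.z c) (pw H.x a' * pw H.y b'),
          (H.zpw_comm c (r := pw H.x a' * pw H.y b') hxy).eq]
        simp only [mul_assoc]
    _ = pw H.x a * (pw H.x a' * pw H.y b * pw H.z (-(a' * b))) * pw H.y b' * (pw H.z c * pw H.z c') := by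
        rw [← H.y_x]; simp only [mul_assoc]
    _ = pw H.x (a + a') * pw H.y (b + b') * pw H.z (c + c' - a' * b) := by
        rw [mul_assoc (pw H.x a), mul_assoc (pw H.x a' * pw H.y b),
          (H.zpw_comm _ (r := pw H.y b') hy).eq, pw_add (H.hexp _ H.hx), pw_add (H.hexp _ H.hy),
          sub_eq_add_neg, add_comm (c + c'), pw_add (H.hexp _ H.zmem), pw_add (H.hexp _ H.zmem)]
        simp only [mul_assoc]

theorem W_zero : H.W 0 0 0 = 1 := by simp [W, pw_zero]

theorem W_x : H.W 1 0 0 = H.x := by simp [W, pw_zero, pw_one]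

theorem W_y : H.W 0 1 0 = H.y := by simp [W, pw_zero, pw_one]

theorem W_z : H.W 0 0 1 = H.z := by simp [W, pw_zero, pw_one]

theorem W_inv (a b c : ZMod 3) : (H.W a b c)⁻¹ = H.W (-a) (-b) (-c - a * b) := by
  apply inv_eq_of_mul_eq_one_right
  rw [H.W_mul, ← H.W_zero]
  ring_nf

theorem zc_eq_one {c : ZMod 3} (h : pw H.z c = 1) : c = 0 := by
  have hord : orderOf H.z = 3 :=
    orderOf_eq_prime (p := 3) (H.hexp _ H.zmem) H.hz1
  have := orderOf_dvd_of_pow_eq_one h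
  rw [hord] at this
  exact (ZMod.val_eq_zero c).mp (Nat.eq_zero_of_dvd_of_lt this (ZMod.val_lt c))

theorem W_inj {a b c a' b' c' : ZMod 3} (h : H.W a b c = H.W a' b' c') :
    a = a' ∧ b = b' ∧ c = c' := by
  have h0 : H.W a b c * (H.W a' b' c')⁻¹ = 1 := by rw [h, mul_inv_cancel]
  rw [H.W_inv, H.W_mul] at h0
  set A := a + -a'
  set B := b + -b'
  set C := c + (-c' - a' * b') - -a' * b
  have hA : H.W 0 1 0 * H.W A B C = H.W A B C * H.W 0 1 0 := by rw [h0, one_mul, mul_one]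
  have hB : H.W 1 0 0 * H.W A B C = H.W A B C * H.W 1 0 0 := by rw [h0, one_mul, mul_one]
  rw [H.W_mul, H.W_mul] at hA hB
  have e : ∀ p q c d : ZMod 3, H.W p q c = H.W p q d → c = d := fun p q c d he => by
    have h2 := mul_left_cancel (a := pw H.x p * pw H.y q) he
    have : pw H.z (c - d) = 1 := by
      rw [sub_eq_add_neg, pw_add (H.hexp _ H.zmem), pw_neg (H.hexp _ H.zmem), h2, mul_inv_cancel]
    exact sub_eq_zero.mp (H.zc_eq_one this)
  rw [add_comm A 0, add_comm B 1] at hA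
  rw [add_comm A 1, add_comm B 0] at hB
  have hA' := e _ _ _ _ hA
  have hB' := e _ _ _ _ hB
  have hA0 : A = 0 := by linear_combination -hA'
  have hB0 : B = 0 := by linear_combination hB'
  rw [hA0, hB0] at h0
  have hC : C = 0 := e 0 0 C 0 (by rw [h0, H.W_zero])
  refine ⟨by linear_combination hA0, by linear_combination hB0, ?_⟩
  have ha : a = a' := by linear_combination hA0
  have hb : b = b' := by linear_combination hB0
  simp only [C, ha, hb] at hC
  linear_combination hC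

theorem W_surj {r : X} (hr : r ∈ H.R) : ∃ a b c, r = H.W a b c := by
  classical
  haveI := Fintype.ofFinite X
  let f : ZMod 3 × ZMod 3 × ZMod 3 → H.R := fun t => ⟨H.W t.1 t.2.1 t.2.2, H.W_mem _ _ _⟩
  have hinj : Function.Injective f := by
    rintro ⟨a, b, c⟩ ⟨a', b', c'⟩ he
    obtain ⟨r1, r2, r3⟩ := H.W_inj (congrArg Subtype.val he)
    subst r1; subst r2; subst r3; rfl
  have hbij : Function.Bijective f := by
    rw [Fintype.bijective_iff_injective_and_card]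
    refine ⟨hinj, ?_⟩
    rw [← Nat.card_eq_fintype_card, ← Nat.card_eq_fintype_card, H.card]
    simp
  obtain ⟨⟨a, b, c⟩, ht⟩ := hbij.2 ⟨r, hr⟩
  exact ⟨a, b, c, (congrArg Subtype.val ht).symm⟩

/-- The two coordinates modulo the centre. -/
noncomputable def q (r : X) : Fin 2 → ZMod 3 :=
  open Classical in if hr : r ∈ H.R then ![(H.W_surj hr).choose, (H.W_surj hr).choose_spec.choose] else 0

theorem q_W (a b c : ZMod 3) : H.q (H.W a b c) = ![a, b] := by
  have hr := H.W_mem a b c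
  obtain ⟨c', hc⟩ := (H.W_surj hr).choose_spec.choose_spec
  obtain ⟨h1, h2, -⟩ := H.W_inj hc
  simp only [q, dif_pos hr]
  ext i
  fin_cases i
  · exact h1.symm
  · exact h2.symm

theorem q_mul {r s : X} (hr : r ∈ H.R) (hs : s ∈ H.R) : H.q (r * s) = H.q r + H.q s := by
  obtain ⟨a, b, c, rfl⟩ := H.W_surj hr
  obtain ⟨a', b', c', rfl⟩ := H.W_surj hs
  rw [H.W_mul, H.q_W, H.q_W, H.q_W]
  simp

theorem q_pw {r : X} (hr : r ∈ H.R) (a : ZMod 3) : H.q (pw r a) = a • H.q r := by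
  obtain ⟨n, rfl⟩ := ZMod.natCast_zmod_surjective a
  rw [pw_eq (H.hexp r hr)]
  induction n with
  | zero => simp [← H.W_zero, H.q_W]
  | succ n ih => rw [pow_succ, H.q_mul (H.R.pow_mem hr n) hr, ih, Nat.cast_succ, add_smul, one_smul]

theorem q_pw_z (c : ZMod 3) : H.q (pw H.z c) = 0 := by
  rw [H.q_pw H.zmem, ← H.W_z, H.q_W]
  simp

theorem conj_mem (g : X) {r : X} (hr : r ∈ H.R) : g * r * g⁻¹ ∈ H.R := H.normal.conj_mem r hr g

/-- The matrix of `g` on the Heisenberg group modulo its centre. -/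
noncomputable def M (g : X) : Matrix (Fin 2) (Fin 2) (ZMod 3) :=
  !![H.q (g * H.x * g⁻¹) 0, H.q (g * H.y * g⁻¹) 0; H.q (g * H.x * g⁻¹) 1, H.q (g * H.y * g⁻¹) 1]

theorem conj_pw (g r : X) (a : ZMod 3) : g * pw r a * g⁻¹ = pw (g * r * g⁻¹) a := by
  rw [pw, pw, conj_pow]

theorem conj_z (g : X) : g * H.z * g⁻¹ = pw H.z (H.M g).det := by
  obtain ⟨a, b, c, h1⟩ := H.W_surj (H.conj_mem g H.hx)
  obtain ⟨a', b', c', h2⟩ := H.W_surj (H.conj_mem g H.hy)
  have : g * H.z * g⁻¹ = (g * H.x * g⁻¹) * (g * H.y * g⁻¹) * (g * H.x * g⁻¹)⁻¹ * (g * H.y * g⁻¹)⁻¹ := by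
    rw [H.hz]; group
  rw [this, M, h1, h2, H.q_W, H.q_W, H.W_inv, H.W_inv, H.W_mul, H.W_mul, H.W_mul, Matrix.det_fin_two]
  have hz : ∀ t, pw H.z t = H.W 0 0 t := fun t => by simp [W, pw_zero]
  rw [hz]
  simp
  ring_nf

theorem q_conj (g : X) {r : X} (hr : r ∈ H.R) : H.q (g * r * g⁻¹) = H.M g *ᵥ H.q r := by
  obtain ⟨a, b, c, rfl⟩ := H.W_surj hr
  have hx := H.conj_mem g H.hx
  have hy := H.conj_mem g H.hy
  have hz := H.conj_mem g H.zmem
  have : g * H.W a b c * g⁻¹ = pw (g * H.x * g⁻¹) a * pw (g * H.y * g⁻¹) b * pw (g * H.z * g⁻¹) c := by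
    rw [← conj_pw, ← conj_pw, ← conj_pw, W]; group
  rw [this, H.q_mul (r := pw (g * H.x * g⁻¹) a * pw (g * H.y * g⁻¹) b) (s := pw (g * H.z * g⁻¹) c)
      (H.R.mul_mem (H.R.pow_mem hx _) (H.R.pow_mem hy _)) (H.R.pow_mem hz _),
    H.q_mul (r := pw (g * H.x * g⁻¹) a) (s := pw (g * H.y * g⁻¹) b) (H.R.pow_mem hx _) (H.R.pow_mem hy _),
    H.q_pw hx, H.q_pw hy, H.q_pw hz, H.conj_z, H.q_pw_z, H.q_W]
  ext i
  fin_cases i <;> simp [M, Matrix.mulVec, dotProduct, Fin.sum_univ_two] <;> ring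

theorem M_mul (g h : X) : H.M (g * h) = H.M g * H.M h := by
  have key : ∀ r ∈ H.R, H.q (g * h * r * (h⁻¹ * g⁻¹)) = H.M g *ᵥ H.q (h * r * h⁻¹) := fun r hr => by
    rw [← H.q_conj g (H.conj_mem h hr)]; group
  ext i j
  rw [Matrix.mul_apply, Fin.sum_univ_two]
  fin_cases i <;> fin_cases j <;>
    simp [M, key _ H.hx, key _ H.hy, Matrix.mulVec, dotProduct, Fin.sum_univ_two]

theorem M_one : H.M 1 = 1 := by
  ext i j
  fin_cases i <;> fin_cases j <;> simp [M, ← H.W_x, ← H.W_y, H.q_W]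

/-- The linear action modulo the centre. -/
noncomputable def φ : X →* Matrix (Fin 2) (Fin 2) (ZMod 3) :=
  { toFun := H.M, map_one' := H.M_one, map_mul' := H.M_mul }

theorem φ_of_mem {r : X} (hr : r ∈ H.R) : H.φ r = 1 := by
  have key : ∀ s ∈ H.R, H.q (r * s * r⁻¹) = H.q s := fun s hs => by
    rw [H.q_mul (H.R.mul_mem hr hs) (H.R.inv_mem hr), H.q_mul hr hs]
    have : H.q r + H.q r⁻¹ = 0 := by
      rw [← H.q_mul hr (H.R.inv_mem hr), mul_inv_cancel, ← H.W_zero, H.q_W]; simp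
    linear_combination (exp := 1) this
  change H.M r = 1
  ext i j
  fin_cases i <;> fin_cases j <;> simp [M, key _ H.hx, key _ H.hy] <;>
    simp [← H.W_x, ← H.W_y, H.q_W]

end Heis

end Cfsg.Agent.Recognition.HeisSL23
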